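import Cfsg.Agent.Lib.H4.GWBase
import Cfsg.Agent.Lib.H26.SolvBal
import Cfsg.Agent.Lib.H29.Fit2
import Cfsg.Agent.S0205

set_option autoImplicit false

/-! T-GW4, PART B: the lemmas (T), (PQ), (KEY). -/

namespace H4.GW

open Cfsg Subgroup H28.Cj H28.RelSyl H28.RelHall H28.RelCore

variable {G : Type*} [Group G]

theorem solvable_of_odd [Finite G] {Y : Subgroup G} (hY : Odd (Nat.card Y)) : Group.IsSolvable Y :=
  Cfsg.Agent.S0205.result hY

/-- dihedral trick: `a` inverted by the involution `t`, both normalise `D` (odd order, order of `a`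
prime to `|D|`), `a` centralises `C_D(t)`: then `a` centralises `D`. -/
theorem dihedral_trick [Finite G] {D : Subgroup G} (hD : Odd (Nat.card D)) {t a : G}
    (ht : t * t = 1) (htD : t ∈ normalizer (D : Set G)) (haD : a ∈ normalizer (D : Set G))
    (ha : Inv t a) (ho : Odd (orderOf a)) (hcop : (orderOf a).Coprime (Nat.card D))
    (hc : ∀ c ∈ D, t * c * t⁻¹ = c → a * c = c * a) : ∀ d ∈ D, a * d = d * a := by
  have hti : t⁻¹ = t := inv_eq_of_mul_eq_one_right ht
  obtain ⟨k, hk⟩ := exists_sqrt ho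
  -- `t' = t a` is the conjugate of `t` under `a^k`
  have hbD : a ^ k ∈ normalizer (D : Set G) := (normalizer (D : Set G)).pow_mem haD k
  set b := a ^ k with hb
  have hbI : Inv t b := ha.pow k
  have hta : t * a = b⁻¹ * t * b := by
    unfold Inv at hbI
    rw [hti] at hbI
    have : b⁻¹ * t = t * b := by
      rw [← hbI]; simp only [mul_assoc]; rw [ht, mul_one]
    rw [this, mul_assoc, hk]
  have hcomb : ∀ c ∈ D, t * c * t⁻¹ = c → b * c = c * b := fun c hcD h => by
    have : Commute a c := hc c hcD h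
    exact (this.pow_left k).eq
  -- the inverted elements
  have key : ∀ i ∈ D, Inv t i → a * i = i * a := by
    intro i hi hiI
    -- decompose `b i b⁻¹` with respect to `t`
    have hbi : b * i * b⁻¹ ∈ D := (mem_normalizer_iff.1 hbD i).1 hi
    obtain ⟨c, hcD, j, hjD, hct, hj, hdec⟩ := exists_decomp hD ht htD hbi
    have hcb := hcomb c hcD hct
    have hca := hc c hcD hct
    -- i = c * (b⁻¹ j b)
    have hi2 : i = c * (b⁻¹ * j * b) := by
      calc i = b⁻¹ * (b * i * b⁻¹) * b := by group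
        _ = b⁻¹ * (c * j) * b := by rw [hdec]
        _ = (b⁻¹ * (c * b)) * (b⁻¹ * j * b) := by group
        _ = (b⁻¹ * (b * c)) * (b⁻¹ * j * b) := by rw [hcb]
        _ = c * (b⁻¹ * j * b) := by group
    set i' := b⁻¹ * j * b with hi'
    -- t' inverts i'
    have ht' : (t * a) * i' * (t * a)⁻¹ = i'⁻¹ := by
      rw [hta, hi']
      unfold Inv at hj
      calc (b⁻¹ * t * b) * (b⁻¹ * j * b) * (b⁻¹ * t * b)⁻¹ = b⁻¹ * (t * j * t⁻¹) * b := by group
        _ = (b⁻¹ * j * b)⁻¹ := by rw [hj]; group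
    have hct' : (t * a) * c * (t * a)⁻¹ = c := by
      calc (t * a) * c * (t * a)⁻¹ = t * (a * c) * a⁻¹ * t⁻¹ := by group
        _ = t * (c * a) * a⁻¹ * t⁻¹ := by rw [hca]
        _ = t * c * t⁻¹ := by group
        _ = c := hct
    have h1 : (t * a) * i * (t * a)⁻¹ = c * i'⁻¹ := by
      rw [hi2, ← ht']
      nth_rewrite 2 [← hct']
      group
    have h2 : a * i * a⁻¹ = t * (c * i'⁻¹) * t := by
      rw [← h1]
      calc a * i * a⁻¹ = (t⁻¹ * t) * (a * i * a⁻¹) * (t⁻¹ * t) := by group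
        _ = t⁻¹ * ((t * a) * i * (t * a)⁻¹) * t := by group
        _ = t * ((t * a) * i * (t * a)⁻¹) * t := by rw [hti]
    have h3 : t * i'⁻¹ * t = c * i' * c := by
      -- from t i t = i⁻¹
      have h4 : t * (c * i') * t = (c * i')⁻¹ := by
        have := hiI
        unfold Inv at this
        rw [hti, hi2] at this
        exact this
      have h5 : (t * c * t) * (t * i' * t) = i'⁻¹ * c⁻¹ := by
        rw [← mul_inv_rev, ← h4]
        calc (t * c * t) * (t * i' * t) = t * c * (t * t) * i' * t := by group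
          _ = t * (c * i') * t := by rw [ht]; group
      rw [hti] at hct
      rw [hct] at h5
      have h6 : t * i' * t = c⁻¹ * i'⁻¹ * c⁻¹ := by
        rw [mul_assoc c⁻¹, ← h5]; group
      calc t * i'⁻¹ * t = (t⁻¹ * i' * t⁻¹)⁻¹ := by group
        _ = (t * i' * t)⁻¹ := by rw [hti]
        _ = c * i' * c := by rw [h6]; group
    have h7 : a * i * a⁻¹ = c * i * c := by
      rw [h2]
      rw [hti] at hct
      calc t * (c * i'⁻¹) * t = (t * c * t) * ((t * t)⁻¹ * (t * i'⁻¹ * t)) := by group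
        _ = c * (c * i' * c) := by rw [hct, ht, h3]; group
        _ = c * i * c := by rw [hi2]; group
    have hac : Commute a c := hca
    have h8 : ∀ n : ℕ, a ^ n * i * (a ^ n)⁻¹ = c ^ n * i * c ^ n := by
      intro n
      induction n with
      | zero => simp
      | succ n ih =>
        have hcn : Commute a (c ^ n) := hac.pow_right n
        calc a ^ (n + 1) * i * (a ^ (n + 1))⁻¹ = a * (a ^ n * i * (a ^ n)⁻¹) * a⁻¹ := by
              rw [pow_succ', mul_inv_rev]; simp only [mul_assoc]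
          _ = a * (c ^ n * i * c ^ n) * a⁻¹ := by rw [ih]
          _ = (a * c ^ n) * i * (c ^ n * a⁻¹) := by group
          _ = (c ^ n * a) * i * (a⁻¹ * c ^ n) := by rw [hcn.eq, (hcn.inv_left).eq]
          _ = c ^ n * (a * i * a⁻¹) * c ^ n := by simp only [mul_assoc]
          _ = c ^ n * (c * i * c) * c ^ n := by rw [h7]
          _ = c ^ (n + 1) * i * c ^ (n + 1) := by
              rw [show c ^ (n + 1) * i * c ^ (n + 1) = (c ^ n * c) * i * (c * c ^ n) by
                rw [← pow_succ, ← pow_succ']]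
              simp only [mul_assoc]
    have h9 := h8 (orderOf a)
    rw [pow_orderOf_eq_one] at h9
    simp only [one_mul, inv_one, mul_one] at h9
    set e := c ^ orderOf a with he
    have heD : e ∈ D := D.pow_mem hcD _
    -- i⁻¹ e i = e⁻¹
    have h10 : i⁻¹ * e * i = e⁻¹ := by
      rw [eq_inv_iff_mul_eq_one]
      calc i⁻¹ * e * i * e = i⁻¹ * (e * i * e) := by group
        _ = 1 := by rw [← h9]; group
    have hio := odd_orderOf_of_mem hD hi
    obtain ⟨m, hm⟩ := hio
    have h11 : i⁻¹ * (i⁻¹ * e * i) * i = e := by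
      rw [h10, show i⁻¹ * e⁻¹ * i = (i⁻¹ * e * i)⁻¹ by group, h10, inv_inv]
    have h12 : ∀ n : ℕ, (i ^ (2 * n))⁻¹ * e * i ^ (2 * n) = e := by
      intro n
      induction n with
      | zero => simp
      | succ n ih =>
        have : (i ^ (2 * (n + 1)))⁻¹ * e * i ^ (2 * (n + 1))
            = i⁻¹ * (i⁻¹ * ((i ^ (2 * n))⁻¹ * e * i ^ (2 * n)) * i) * i := by
          rw [show 2 * (n + 1) = 2 * n + 1 + 1 by ring, pow_succ, pow_succ]
          simp only [mul_inv_rev, mul_assoc]
        rw [this, ih, h11]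
    have h13 : i ^ (2 * m) = i⁻¹ := by
      rw [eq_inv_iff_mul_eq_one, ← pow_succ, ← hm, pow_orderOf_eq_one]
    have h14 := h12 m
    rw [h13, inv_inv] at h14
    -- i e i⁻¹ = e, so e = e⁻¹
    have h15 : e = e⁻¹ := by
      rw [← h10]
      calc e = i⁻¹ * (i * e * i⁻¹) * i := by group
        _ = i⁻¹ * e * i := by rw [h14]
    have h16 : e * e = 1 := by
      nth_rewrite 1 [h15]; group
    have h17 : e = 1 := by
      have h18 := odd_orderOf_of_mem hD heD
      have h19 : orderOf e ∣ 2 := orderOf_dvd_of_pow_eq_one (by rw [pow_two]; exact h16)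
      rcases (Nat.dvd_prime Nat.prime_two).1 h19 with h | h
      · exact orderOf_eq_one_iff.1 h
      · rw [h] at h18; exact absurd h18 (by decide)
    have h20 : orderOf c ∣ orderOf a := orderOf_dvd_of_pow_eq_one h17
    have h21 : orderOf c ∣ Nat.card D := by
      have := orderOf_dvd_natCard (⟨c, hcD⟩ : D)
      rwa [Subgroup.orderOf_mk] at this
    have h22 : orderOf c = 1 := Nat.eq_one_of_dvd_coprimes hcop h20 h21
    have h23 : c = 1 := orderOf_eq_one_iff.1 h22
    rw [h23, one_mul, mul_one] at h7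
    exact mul_inv_eq_iff_eq_mul.1 h7
  intro d hd
  obtain ⟨c, hcD, i, hiD, hct, hi, rfl⟩ := exists_decomp hD ht htD hd
  have h1 := hc c hcD hct
  have h2 := key i hiD hi
  calc a * (c * i) = (a * c) * i := by group
    _ = c * (a * i) := by rw [h1]; group
    _ = (c * i) * a := by rw [h2]; group

theorem exists_pow_of_mem {p : ℕ} {T : Subgroup G} (hT : IsPGroup p T) {a : G} (ha : a ∈ T) :
    ∃ k : ℕ, a ^ p ^ k = 1 := by
  obtain ⟨k, hk⟩ := hT ⟨a, ha⟩
  exact ⟨k, by simpa using congrArg Subtype.val hk⟩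

theorem orderOf_coprime [Finite G] {p : ℕ} [hp : Fact p.Prime] {T D : Subgroup G}
    (hT : IsPGroup p T) (hD : (Nat.card D).Coprime p) {a : G} (ha : a ∈ T) :
    (orderOf a).Coprime (Nat.card D) := by
  obtain ⟨k, hk⟩ := exists_pow_of_mem hT ha
  exact Nat.Coprime.coprime_dvd_left (orderOf_dvd_of_pow_eq_one hk) (Nat.Coprime.pow_left k hD.symm)

theorem eq_one_of_mem_both [Finite G] {p : ℕ} [hp : Fact p.Prime] {T D : Subgroup G}
    (hT : IsPGroup p T) (hD : (Nat.card D).Coprime p) {a : G} (ha : a ∈ T) (haD : a ∈ D) : a = 1 := by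
  have h1 := orderOf_coprime hT hD ha
  have h2 : orderOf a ∣ Nat.card D := by
    have := orderOf_dvd_natCard (⟨a, haD⟩ : D)
    rwa [Subgroup.orderOf_mk] at this
  exact orderOf_eq_one_iff.1 (Nat.eq_one_of_dvd_coprimes h1 dvd_rfl h2)

/-- first step of (T): `a ∈ T` inverted by `t` centralises a `p'`-subgroup `D` -/
theorem inv_centralizes [Finite G] {p : ℕ} [hp : Fact p.Prime] (hp2 : p ≠ 2) {T D : Subgroup G} {t : G}
    (hT : IsPGroup p T) (hD : Odd (Nat.card D)) (hDp : (Nat.card D).Coprime p) (ht : t * t = 1)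
    (htD : t ∈ normalizer (D : Set G)) {a : G} (haT : a ∈ T) (haD : T ≤ normalizer (D : Set G))
    (ha : Inv t a) (hn : D ⊓ Ce t ≤ normalizer (T : Set G)) : ∀ d ∈ D, a * d = d * a := by
  refine dihedral_trick hD ht htD (haD haT) ha (odd_orderOf_of_mem (odd_of_isPGroup hp2 hT) haT)
    (orderOf_coprime hT hDp haT) ?_
  intro c hc hct
  have h1 : c ∈ normalizer (T : Set G) := hn ⟨hc, mem_Ce'.2 hct⟩
  have h2 : c * a⁻¹ * c⁻¹ ∈ T := (mem_normalizer_iff.1 h1 a⁻¹).1 (T.inv_mem haT)
  have h3 : a * c * a⁻¹ ∈ D := (mem_normalizer_iff.1 (haD haT) c).1 hc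
  have h4 : a * c * a⁻¹ * c⁻¹ = 1 := by
    apply eq_one_of_mem_both hT hDp (a := a * c * a⁻¹ * c⁻¹)
    · have : a * c * a⁻¹ * c⁻¹ = a * (c * a⁻¹ * c⁻¹) := by group
      rw [this]; exact T.mul_mem haT h2
    · exact D.mul_mem h3 (D.inv_mem hc)
  have h5 : a * c * a⁻¹ = c := mul_inv_eq_one.1 h4
  exact mul_inv_eq_iff_eq_mul.1 h5

/-- (T) when `O_p(Y) = 1` -/
theorem inv_eq_one_of_op_bot [Finite G] {p : ℕ} [hp : Fact p.Prime] (hp2 : p ≠ 2)
    {Y T : Subgroup G} {t : G} (hY : Odd (Nat.card Y)) (hop : op p Y = ⊥) (ht : t * t = 1)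
    (htY : t ∈ normalizer (Y : Set G)) (hT : IsPGroup p T) (hTY : T ≤ Y)
    (hn : Y ⊓ Ce t ≤ normalizer (T : Set G)) {a : G} (haT : a ∈ T) (ha : Inv t a) : a = 1 := by
  have hF : PiG {p}ᶜ (fittingOf Y) := H29.Fit1.piG_fittingOf hop
  have hFc : (Nat.card (fittingOf Y)).Coprime p := coprime_of_piG_compl hF
  have h1 : ∀ d ∈ fittingOf Y, a * d = d * a := by
    apply inv_centralizes hp2 hT (odd_of_le (fittingOf_le Y) hY) hFc ht
      (normalizer_le_normalizer_fittingOf Y htY) haT (hTY.trans (le_normalizer_fittingOf Y)) ha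
    exact (inf_le_inf_right _ (fittingOf_le Y)).trans hn
  have h2 : a ∈ fittingOf Y := by
    apply H29.NilCore.inf_centralizer_fittingOf_le (solvable_of_odd hY)
    refine mem_inf.2 ⟨hTY haT, ?_⟩
    rw [mem_centralizer_iff]
    intro d hd
    exact (h1 d hd).symm
  exact eq_one_of_mem_both hT hFc haT h2

/-- lemma (T): `[T ∩ Y, t] ≤ O_p(Y)`, elementwise form -/
theorem inv_mem_op [Finite G] {p : ℕ} [hp : Fact p.Prime] (hp2 : p ≠ 2)
    {Y T : Subgroup G} {t : G} (hY : Odd (Nat.card Y)) (ht : t * t = 1)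
    (htY : t ∈ normalizer (Y : Set G)) (htT : t ∈ normalizer (T : Set G)) (hT : IsPGroup p T)
    (hn : Y ⊓ Ce t ≤ normalizer (T : Set G)) {a : G} (haT : a ∈ T) (haY : a ∈ Y) (ha : Inv t a) :
    a ∈ op p Y := by
  set Q := op p Y with hQ
  set N := normalizer (Q : Set G) with hN
  have hYN : Y ≤ N := le_norm_op p Y
  have htN : t ∈ N := norm_le_norm_op p Y htY
  set Q' : Subgroup N := Q.subgroupOf N with hQ'
  have hQn : Q'.Normal := inferInstanceAs ((Q.subgroupOf (normalizer (Q : Set G))).Normal)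
  set f := QuotientGroup.mk' Q' with hf
  set Y' : Subgroup N := Y.subgroupOf N with hY'
  set T' : Subgroup N := (T ⊓ Y).subgroupOf N with hT'
  have hYc : Nat.card Y' = Nat.card Y := H28.RelSyl.card_subgroupOf hYN
  have hoddY : Odd (Nat.card (Y'.map f)) :=
    Odd.of_dvd_nat (by rw [hYc]; exact hY) (card_map_dvd _ f)
  have hQY : Q ≤ Y := op_le p Y
  have hfker : ∀ x : N, f x = 1 ↔ (x : G) ∈ Q := by
    intro x
    rw [hf, QuotientGroup.mk'_apply, QuotientGroup.eq_one_iff, hQ', mem_subgroupOf]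
  -- O_p of the quotient is trivial
  have hop : op p (Y'.map f) = ⊥ := by
    set R := op p (Y'.map f) with hR
    have hRp : IsPGroup p R := isPGroup_op p _
    set S : Subgroup N := R.comap f with hS
    have hSY : S ≤ Y' := by
      intro x hx
      have h1 : f x ∈ Y'.map f := op_le p _ hx
      obtain ⟨y, hy, e⟩ := h1
      have h2 : f (y⁻¹ * x) = 1 := by rw [map_mul, map_inv, e]; group
      have h3 : ((y⁻¹ * x : N) : G) ∈ Y := hQY ((hfker _).1 h2)
      have h4 : (y⁻¹ * x : N) ∈ Y' := mem_subgroupOf.2 h3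
      have := Y'.mul_mem hy h4
      rwa [mul_inv_cancel_left] at this
    have hSp : IsPGroup p S := by
      apply hRp.comap_of_ker_isPGroup
      rw [hf, QuotientGroup.ker_mk']
      exact (H28.RelSyl.isPGroup_subgroupOf (le_normalizer)).2 (isPGroup_op p Y)
    have hSn : Y' ≤ normalizer (S : Set N) := by
      intro y hy
      rw [mem_normalizer_iff]
      intro x
      have h1 : f y ∈ normalizer (R : Set (N ⧸ Q')) :=
        le_norm_op p (Y'.map f) (mem_map_of_mem f hy)
      rw [hS, mem_comap, mem_comap, map_mul, map_mul, map_inv]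
      exact mem_normalizer_iff.1 h1 (f x)
    have hS1 : S.map N.subtype ≤ Q := by
      apply le_op
      · rintro _ ⟨x, hx, rfl⟩
        exact mem_subgroupOf.1 (hSY hx)
      · intro y hy
        rw [mem_normalizer_iff]
        intro x
        have h1 := hSn (show (⟨y, hYN hy⟩ : N) ∈ Y' from mem_subgroupOf.2 hy)
        constructor
        · rintro ⟨z, hz, rfl⟩
          exact ⟨_, (mem_normalizer_iff.1 h1 z).1 hz, rfl⟩
        · rintro ⟨z, hz, e⟩
          refine ⟨(⟨y, hYN hy⟩ : N)⁻¹ * z * ⟨y, hYN hy⟩, ?_, ?_⟩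
          · apply (mem_normalizer_iff.1 h1 _).2
            have : (⟨y, hYN hy⟩ : N) * ((⟨y, hYN hy⟩ : N)⁻¹ * z * ⟨y, hYN hy⟩) * (⟨y, hYN hy⟩ : N)⁻¹ = z := by
              group
            rw [this]; exact hz
          · change y⁻¹ * (z : G) * y = x
            change (z : G) = y * x * y⁻¹ at e
            rw [e]; group
      · exact hSp.map N.subtype
    rw [eq_bot_iff]
    intro x hx
    obtain ⟨z, rfl⟩ := QuotientGroup.mk'_surjective Q' x
    have h1 : z ∈ S := hx
    rw [mem_bot]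
    exact (hfker z).2 (hS1 ⟨z, h1, rfl⟩)
  set t' : N := ⟨t, htN⟩ with ht'
  have ht1 : f t' * f t' = 1 := by
    rw [← map_mul]
    have : t' * t' = 1 := Subtype.ext ht
    rw [this, map_one]
  have ht2 : f t' ∈ normalizer ((Y'.map f : Subgroup (N ⧸ Q')) : Set (N ⧸ Q')) := by
    apply le_normalizer_map f
    refine ⟨t', ?_, rfl⟩
    rw [SetLike.mem_coe, mem_normalizer_iff]
    intro x
    rw [hY', mem_subgroupOf, mem_subgroupOf]
    exact mem_normalizer_iff.1 htY x
  have hTp : IsPGroup p (T'.map f) := by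
    apply IsPGroup.map
    exact (H28.RelSyl.isPGroup_subgroupOf (inf_le_right.trans hYN)).2 (hT.to_le inf_le_left)
  have hcent : Y'.map f ⊓ Ce (f t') ≤ normalizer ((T'.map f : Subgroup (N ⧸ Q')) : Set (N ⧸ Q')) := by
    rintro _ ⟨⟨y, hy, rfl⟩, hyt⟩
    have hyY : (y : G) ∈ Y := mem_subgroupOf.1 hy
    obtain ⟨c, hc, b, hb, hct, hbt, e⟩ := exists_decomp hY ht htY hyY
    set c' : N := ⟨c, hYN hc⟩ with hc'
    set b' : N := ⟨b, hYN hb⟩ with hb'
    have e' : y = c' * b' := Subtype.ext e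
    have hct' : t' * c' * t'⁻¹ = c' := Subtype.ext hct
    have hbt' : t' * b' * t'⁻¹ = b'⁻¹ := Subtype.ext hbt
    have h1 : f t' * f y * (f t')⁻¹ = f y := mem_Ce'.1 hyt
    have h2 : f b' * f b' = 1 := by
      have h3 : f t' * f y * (f t')⁻¹ = f c' * (f b')⁻¹ := by
        rw [← map_inv, ← map_mul, ← map_mul, e',
          show t' * (c' * b') * t'⁻¹ = (t' * c' * t'⁻¹) * (t' * b' * t'⁻¹) by group, hct', hbt',
          map_mul, map_inv]
      rw [h1, e', map_mul] at h3
      have h4 := mul_left_cancel h3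
      nth_rewrite 1 [h4]; group
    have h3 : f b' = 1 := by
      have h5 := odd_orderOf_of_mem hoddY (mem_map_of_mem f (show b' ∈ Y' from mem_subgroupOf.2 hb))
      have h6 : orderOf (f b') ∣ 2 := orderOf_dvd_of_pow_eq_one (by rw [pow_two]; exact h2)
      rcases (Nat.dvd_prime Nat.prime_two).1 h6 with h | h
      · exact orderOf_eq_one_iff.1 h
      · rw [h] at h5; exact absurd h5 (by decide)
    have h4 : f y = f c' := by rw [e', map_mul, h3, mul_one]
    rw [h4]
    have hcN : c ∈ normalizer (T : Set G) := hn ⟨hc, mem_Ce'.2 hct⟩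
    apply le_normalizer_map f
    refine ⟨c', ?_, rfl⟩
    rw [SetLike.mem_coe, mem_normalizer_iff]
    intro x
    rw [hT', mem_subgroupOf, mem_subgroupOf, mem_inf, mem_inf]
    have h5 := mem_normalizer_iff.1 hcN (x : G)
    have h6 := mem_normalizer_iff.1 (le_normalizer hc : c ∈ normalizer (Y : Set G)) (x : G)
    exact and_congr h5 h6
  have haN : a ∈ N := hYN haY
  have hfin := inv_eq_one_of_op_bot hp2 (Y := Y'.map f) (T := T'.map f) (t := f t') hoddY hop ht1 ht2 hTp
    (map_mono (fun x hx => mem_subgroupOf.2 (mem_subgroupOf.1 hx).2)) hcent (a := f ⟨a, haN⟩)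
    (mem_map_of_mem f (mem_subgroupOf.2 ⟨haT, haY⟩)) (by
      unfold Inv
      rw [← map_inv, ← map_inv, ← map_mul, ← map_mul]
      congr 1
      exact Subtype.ext ha)
  exact (hfker _).1 hfin

/-- (PQ) -/
theorem le_opp_of_cent [Finite G] {p : ℕ} [hp : Fact p.Prime] {Y B D : Subgroup G}
    (hY : Odd (Nat.card Y)) (hBY : B ≤ Y) (hDY : D ≤ Y) (hB : IsPGroup p B)
    (hD : (Nat.card D).Coprime p) (hDB : ∀ d ∈ D, ∀ b ∈ B, b * d = d * b)
    (hn : Y ⊓ centralizer (B : Set G) ≤ normalizer (D : Set G)) : D ≤ opp p Y := by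
  have h1 : D.subgroupOf Y ≤ pPrimeCore p Y := by
    apply H26.SolvBal.le_pPrimeCore_of_isSolvable (solvable_of_odd hY) (P := B.subgroupOf Y)
    · exact (H28.RelSyl.isPGroup_subgroupOf hBY).2 hB
    · rw [H28.RelSyl.card_subgroupOf hDY]; exact hD
    · intro d hd
      rw [mem_centralizer_iff]
      intro b hb
      exact Subtype.ext (hDB d (mem_subgroupOf.1 hd) b (mem_subgroupOf.1 hb))
    · intro y hy
      have h2 : (y : G) ∈ normalizer (D : Set G) := by
        apply hn
        refine mem_inf.2 ⟨y.2, ?_⟩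
        rw [mem_centralizer_iff]
        intro b hb
        exact congrArg Subtype.val (mem_centralizer_iff.1 hy ⟨b, hBY hb⟩ (mem_subgroupOf.2 hb))
      rw [mem_normalizer_iff]
      intro x
      rw [mem_subgroupOf, mem_subgroupOf]
      exact mem_normalizer_iff.1 h2 x
  have h3 : (pPrimeCore p Y).map Y.subtype ≤ opp p Y := by
    apply le_opp (map_subtype_le _)
    · rw [← normal_subgroupOf_iff_le_normalizer (map_subtype_le _), ← comap_subtype,
        comap_map_eq_self_of_injective Y.subtype_injective]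
      exact H1.Cores.pPrimeCore_normal p
    · rw [H28.RelSyl.card_map_subtype]
      exact H1.Cores.coprime_card_pPrimeCore p
  intro d hd
  exact h3 ⟨⟨d, hDY hd⟩, h1 (mem_subgroupOf.2 hd), rfl⟩

/-- AxB lemma for a subgroup `B` centralised by an involution -/
theorem axb [Finite G] {p : ℕ} [hp : Fact p.Prime] (hp2 : p ≠ 2) {P B : Subgroup G} {t : G}
    (ht : t * t = 1) (hP : IsPGroup p P) (htP : t ∈ normalizer (P : Set G))
    (hB : IsPGroup p B) (hBP : B ≤ normalizer (P : Set G)) (htB : ∀ b ∈ B, b * t = t * b)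
    (hc : ∀ x ∈ P, (∀ b ∈ B, b * x = x * b) → t * x = x * t) : ∀ x ∈ P, t * x = x * t := by
  refine H59.CopAct.AxB B hB t ?_ htB (Nat.card P) P le_rfl hP hBP htP hc
  have h1 : orderOf t ∣ 2 := orderOf_dvd_of_pow_eq_one (by rw [pow_two]; exact ht)
  refine Nat.Coprime.coprime_dvd_left h1 ?_
  exact (Nat.coprime_primes Nat.prime_two hp.out).2 (Ne.symm hp2)

end H4.GW
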