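import Mathlib

set_option autoImplicit false
set_option linter.unusedVariables false

/-!
# S4369: interface (minimal nonsolvable non-CA groups)
-/

namespace H4.CA

open Subgroup

universe u

/-- noncentral with a nonabelian centralizer -/
def Bad {G : Type u} [Group G] (x : G) : Prop :=
  x ∉ center G ∧ ∃ a b : G, Commute x a ∧ Commute x b ∧ ¬ Commute a b

/-- nonsolvable, not CA, all proper subgroups CA -/
structure MN (G : Type u) [Group G] : Prop where
  ns : ¬ Group.IsSolvable G
  ca : ∀ H : Subgroup G, H ≠ ⊤ → ∀ x ∈ H, ∀ a ∈ H, ∀ b ∈ H,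
    Commute x a → Commute x b → ¬ Commute a b → ∀ c ∈ H, Commute x c
  bad : ∃ x : G, Bad x

/-- first layer -/
structure F0 (G : Type u) [Group G] : Prop extends MN G where
  coatom : ∀ x : G, Bad x → IsCoatom (centralizer ({x} : Set G))
  norm : ∀ x : G, Bad x → ∀ g : G, (∀ y, Commute x y → Commute x (g * y * g⁻¹)) → Commute x g
  cent : ∀ N : Subgroup G, N.Normal → ¬ Group.IsSolvable N →
    centralizer (N : Set G) ≤ center G

/-- the full frame -/
structure Frame (G : Type u) [Group G] : Prop extends F0 G where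
  solv : ∀ R : Subgroup G, R.Normal → Group.IsSolvable R → R ≤ center G
  noBad : ∀ N : Subgroup G, N.Normal → N ≠ ⊤ → ∀ x ∈ N, ¬ Bad x
  cyc : ∀ N : Subgroup G, N.Normal → N ≠ ⊤ → ¬ N ≤ center G →
    ∀ x : G, Bad x → N ⊔ zpowers x = ⊤

/-- the conditions after the 2-local analysis, Sylow 2 nonabelian -/
structure Beta (G : Type u) [Group G] : Prop extends Frame G where
  sna : ∃ S : Sylow 2 G, ∃ a ∈ S, ∃ b ∈ S, ¬ Commute a b
  zs : ∀ S : Sylow 2 G, ∀ z ∈ S, (∀ s ∈ S, Commute z s) → z ∈ center G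
  b0 : ∀ s : G, (∃ k : ℕ, s ^ 2 ^ k = 1) → ¬ Bad s

/-- `Beta` plus: an odd element outside the center commutes with no nonabelian 2-group -/
structure Beta1 (G : Type u) [Group G] : Prop extends Beta G where
  b1 : ∀ u : G, u ∉ center G → Odd (orderOf u) → ∀ P : Subgroup G, IsPGroup 2 P →
    (∀ p ∈ P, Commute u p) → ∀ a ∈ P, ∀ b ∈ P, Commute a b

/-- `Beta1` plus: a 2-element commuting with a bad element is central -/
structure Beta2 (G : Type u) [Group G] : Prop extends Beta1 G where
  b2 : ∀ x : G, Bad x → ∀ t : G, (∃ k : ℕ, t ^ 2 ^ k = 1) → Commute x t → t ∈ center G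

end H4.CA
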