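import Cfsg.Agent.Lib.H4.CA0
import Cfsg.Agent.Lib.H18.OddOrder

set_option autoImplicit false
set_option linter.unusedVariables false
set_option maxHeartbeats 400000

/-!
# S4369, piece A
-/

namespace H4.CAA

open Subgroup H4.CA

universe u

variable {G : Type u} [Group G]

theorem mem_ce {x y : G} : y ∈ centralizer ({x} : Set G) ↔ Commute x y := by
  rw [mem_centralizer_singleton_iff]
  exact ⟨fun h => h.symm, fun h => h.symm⟩

theorem mem_Z {x : G} : x ∈ center G ↔ ∀ y, Commute x y := by
  rw [mem_center_iff]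
  exact ⟨fun h y => (h y).symm, fun h y => (h y).symm⟩

/-- L0 -/
theorem L0 (h : MN G) {H : Subgroup G} (hH : H ≠ ⊤) {x a b : G} (hx : x ∈ H) (ha : a ∈ H) (hb : b ∈ H)
    (xa : Commute x a) (xb : Commute x b) (ab : ¬ Commute a b) : H ≤ centralizer {x} :=
  fun c hc => mem_ce.2 (h.ca H hH x hx a ha b hb xa xb ab c hc)

theorem coatom (h : MN G) {x : G} (hx : Bad x) : IsCoatom (centralizer ({x} : Set G)) := by
  obtain ⟨hZ, a, b, xa, xb, ab⟩ := hx
  refine ⟨?_, ?_⟩
  · intro hT
    apply hZ
    rw [mem_Z]
    intro y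
    exact mem_ce.1 (hT ▸ mem_top y)
  · intro H hH
    by_contra hT
    have h1 : x ∈ H := hH.le (mem_ce.2 (Commute.refl x))
    exact hH.not_ge (L0 h hT h1 (hH.le (mem_ce.2 xa)) (hH.le (mem_ce.2 xb)) xa xb ab)

/-- odd quotient by a solvable normal subgroup, via index -/
theorem solvable_of_normal_sylow [Finite G] (P : Sylow 2 G) (hP : (P : Subgroup G).Normal) :
    Group.IsSolvable G := by
  haveI : Fact (Nat.Prime 2) := ⟨Nat.prime_two⟩
  rw [Group.isSolvable_iff_subgroup_quotient (P : Subgroup G)]
  constructor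
  · haveI := P.2.isNilpotent
    infer_instance
  · apply H18.OddOrder.solvable
    rw [← Subgroup.index_eq_card]
    have := P.not_dvd_index
    exact Nat.not_even_iff_odd.1 fun he => this he.two_dvd

theorem solvable_of_burnside [Finite G] (P : Sylow 2 G)
    (hP : normalizer ((P : Subgroup G) : Set G) ≤ centralizer ((P : Subgroup G) : Set G)) : Group.IsSolvable G := by
  haveI : Fact (Nat.Prime 2) := ⟨Nat.prime_two⟩
  have h1 := MonoidHom.not_dvd_card_ker_transferSylow P hP
  have h2 := MonoidHom.ker_transferSylow_isComplement' P hP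
  set K := (MonoidHom.transferSylow P hP).ker
  rw [Group.isSolvable_iff_subgroup_quotient K]
  constructor
  · apply H18.OddOrder.solvable
    exact Nat.not_even_iff_odd.1 fun he => h1 he.two_dvd
  · have h3 : IsPGroup 2 (G ⧸ K) := by
      obtain ⟨n, hn⟩ := IsPGroup.iff_card.1 P.2
      have h2' : K.index = Nat.card P := h2.symm.index_eq_card
      apply IsPGroup.of_card (n := n)
      rw [← Subgroup.index_eq_card, h2']
      exact hn
    haveI := h3.isNilpotent
    infer_instance

/-- L2 -/
theorem cent [Finite G] (h : MN G) (N : Subgroup G) (hN : N.Normal) (hns : ¬ Group.IsSolvable N) :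
    centralizer (N : Set G) ≤ center G := by
  haveI : Fact (Nat.Prime 2) := ⟨Nat.prime_two⟩
  intro y hy
  by_contra hyZ
  have hyN : ∀ n ∈ N, Commute y n := fun n hn => ((mem_centralizer_iff.1 hy) n hn).symm
  obtain ⟨P⟩ : Nonempty (Sylow 2 N) := inferInstance
  have hF := Sylow.normalizer_sup_eq_top P
  set PP : Subgroup G := (P : Subgroup N).map N.subtype with hPP
  have hPPN : PP ≤ N := map_subtype_le _
  by_cases hT : normalizer (PP : Set G) = ⊤
  · apply hns
    apply solvable_of_normal_sylow P
    refine ⟨fun n hn g => ?_⟩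
    have h1 : (g : G) ∈ normalizer (PP : Set G) := hT ▸ mem_top _
    have h2 : (n : G) ∈ PP := mem_map_of_mem N.subtype hn
    have h3 : (g : G) * n * (g : G)⁻¹ ∈ PP := (mem_normalizer_iff.1 h1 n).1 h2
    obtain ⟨m, hm, e⟩ := mem_map.1 h3
    have : m = g * n * g⁻¹ := Subtype.ext (by simpa using e)
    exact this ▸ hm
  · have hyK : y ∈ normalizer (PP : Set G) := by
      rw [mem_normalizer_iff]
      intro n
      constructor
      · intro hn
        have := (hyN n (hPPN hn)).eq
        rw [this, mul_inv_cancel_right]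
        exact hn
      · intro hn
        have h1 : Commute y (y * n * y⁻¹) := hyN _ (hPPN hn)
        have h2 : y * (y * n * y⁻¹) = (y * n * y⁻¹) * y := h1.eq
        have h3 : y * n * y⁻¹ = n := by
          have h4 : y * (y * n * y⁻¹) = y * n := by rw [h2]; group
          exact mul_left_cancel h4
        rw [h3] at hn
        exact hn
    -- N_N(P) abelian
    have key : ∀ a ∈ normalizer (PP : Set G), ∀ b ∈ normalizer (PP : Set G), a ∈ N → b ∈ N → Commute a b := by
      intro a ha b hb haN hbN
      by_contra hab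
      have h1 : normalizer (PP : Set G) ≤ centralizer {y} :=
        L0 h hT hyK ha hb (hyN a haN) (hyN b hbN) hab
      have h2 : N ≤ centralizer {y} := fun n hn => mem_ce.2 (hyN n hn)
      apply hyZ
      rw [mem_Z]
      intro g
      have h3 : (⊤ : Subgroup G) ≤ centralizer {y} := hF ▸ sup_le h1 h2
      exact mem_ce.1 (h3 (mem_top g))
    apply hns
    apply solvable_of_burnside P
    have hnorm : ∀ g : N, g ∈ normalizer ((P : Subgroup N) : Set N) → (g : G) ∈ normalizer (PP : Set G) := by
      intro g hg
      rw [mem_normalizer_iff]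
      intro n
      constructor
      · intro hn
        obtain ⟨m, hm, e⟩ := mem_map.1 hn
        refine mem_map.2 ⟨g * m * g⁻¹, (mem_normalizer_iff.1 hg m).1 hm, ?_⟩
        rw [← e]; simp
      · intro hn
        obtain ⟨m, hm, e⟩ := mem_map.1 hn
        refine mem_map.2 ⟨g⁻¹ * m * g, ?_, ?_⟩
        · rw [mem_normalizer_iff.1 hg]
          have : g * (g⁻¹ * m * g) * g⁻¹ = m := by group
          rw [this]; exact hm
        · have e' : (m : G) = g * n * (g : G)⁻¹ := e
          have : N.subtype (g⁻¹ * m * g) = (g : G)⁻¹ * m * g := by simp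
          rw [this, e']; group
    intro g hg
    rw [mem_centralizer_iff]
    intro p hp
    have hpn : p ∈ normalizer ((P : Subgroup N) : Set N) := le_normalizer hp
    have := key _ (hnorm g hg) _ (hnorm p hpn) g.2 p.2
    exact Subtype.ext this.eq.symm

/-- L1 -/
theorem norm [Finite G] (h : MN G) (x : G) (hx : Bad x) (g : G)
    (hg : ∀ y, Commute x y → Commute x (g * y * g⁻¹)) : Commute x g := by
  by_contra hgx
  set C := centralizer ({x} : Set G) with hC
  have hco : IsCoatom C := coatom h hx
  have hn : g ∈ normalizer (C : Set G) := by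
    rw [← Subgroup.inv_mem_iff]
    have h1 : C.map (MulAut.conj g).toMonoidHom ≤ C := by
      intro y hy
      obtain ⟨m, hm, e⟩ := mem_map.1 hy
      rw [← e]
      exact mem_ce.2 (hg m (mem_ce.1 hm))
    have h2 : C.map (MulAut.conj g).toMonoidHom = C := by
      apply Subgroup.eq_of_le_of_card_ge h1
      rw [Subgroup.card_map_of_injective (MulAut.conj g).injective]
    rw [Subgroup.inv_mem_iff, mem_normalizer_iff]
    intro n
    constructor
    · intro hn'
      exact h1 (mem_map_of_mem (MulAut.conj g).toMonoidHom hn')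
    · intro hn'
      rw [← h2] at hn'
      obtain ⟨m, hm, e⟩ := mem_map.1 hn'
      have e' : g * m * g⁻¹ = g * n * g⁻¹ := e
      have : m = n := mul_left_cancel (mul_right_cancel e')
      exact this ▸ hm
  have hlt : C < normalizer (C : Set G) := by
    refine lt_of_le_of_ne le_normalizer ?_
    intro e
    apply hgx
    have : g ∈ C := by rw [e]; exact hn
    exact mem_ce.1 this
  have htop : normalizer (C : Set G) = ⊤ := hco.2 _ hlt
  haveI hCn : C.Normal := normalizer_eq_top_iff.1 htop
  have hns : ¬ Group.IsSolvable C := by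
    intro hs
    apply h.ns
    rw [Group.isSolvable_iff_subgroup_quotient C]
    refine ⟨hs, ?_⟩
    have hgC : g ∉ C := fun hh => hgx (mem_ce.1 hh)
    have hsup : C ⊔ zpowers g = ⊤ := by
      apply hco.2
      refine lt_of_le_of_ne le_sup_left ?_
      intro e
      apply hgC
      rw [e]
      exact mem_sup_right (mem_zpowers g)
    have hcyc : ∀ a : G ⧸ C, a ∈ zpowers (g : G ⧸ C) := by
      intro a
      obtain ⟨a, rfl⟩ := QuotientGroup.mk_surjective a
      have ha : a ∈ C ⊔ zpowers g := hsup ▸ mem_top a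
      obtain ⟨c, hc, z, hz, rfl⟩ := (mem_sup_of_normal_left (s := C) (t := zpowers g)).1 ha
      obtain ⟨k, rfl⟩ := mem_zpowers_iff.1 hz
      rw [QuotientGroup.mk_mul, (QuotientGroup.eq_one_iff c).2 hc, one_mul]
      exact mem_zpowers_iff.2 ⟨k, by rw [QuotientGroup.mk_zpow]⟩
    apply Group.isSolvable_of_comm
    intro a b
    obtain ⟨i, rfl⟩ := mem_zpowers_iff.1 (hcyc a)
    obtain ⟨j, rfl⟩ := mem_zpowers_iff.1 (hcyc b)
    rw [← zpow_add, ← zpow_add, add_comm]
  have h1 := cent h C hCn hns
  apply hx.1
  apply h1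
  rw [mem_centralizer_iff]
  intro m hm
  exact (mem_ce.1 hm).eq.symm

/-- **piece A** -/
theorem f0 [Finite G] (h : MN G) : F0 G where
  toMN := h
  coatom := fun x hx => coatom h hx
  norm := fun x hx g hg => norm h x hx g hg
  cent := fun N hN hns => cent h N hN hns

end H4.CAA
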