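import Mathlib
import Cfsg.Agent.Lib.H4.NoPartition

/-!
# CA-groups of odd order are solvable (H4.CAOdd)
-/

set_option autoImplicit false
open Cfsg

namespace H4.CAOdd

universe u v

variable {G : Type u} [Group G]

/-- centralizers of non-identity elements are abelian -/
def CA (G : Type u) [Group G] : Prop := ∀ x : G, x ≠ 1 →
  ∀ a ∈ Subgroup.centralizer ({x} : Set G), ∀ b ∈ Subgroup.centralizer ({x} : Set G), a * b = b * a

/-- the centralizer of an element -/
abbrev C (x : G) : Subgroup G := Subgroup.centralizer ({x} : Set G)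

theorem mem_C {x y : G} : y ∈ C x ↔ y * x = x * y := Subgroup.mem_centralizer_singleton_iff

theorem self_mem_C (x : G) : x ∈ C x := mem_C.mpr rfl

theorem CA.subgroup (h : CA G) (H : Subgroup G) : CA H := by
  intro x hx a ha b hb
  apply Subtype.ext
  refine h x (fun h1 => hx (Subtype.ext h1)) a ?_ b ?_
  · exact mem_C.mpr (congrArg Subtype.val (mem_C.mp ha))
  · exact mem_C.mpr (congrArg Subtype.val (mem_C.mp hb))

theorem C_eq (h : CA G) {x y : G} (hx : x ≠ 1) (hy : y ≠ 1) (hxy : y ∈ C x) : C y = C x := by
  have hyx : x ∈ C y := mem_C.mpr (mem_C.mp hxy).symm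
  apply le_antisymm
  · intro z hz
    exact mem_C.mpr (h y hy z hz x hyx)
  · intro z hz
    exact mem_C.mpr (h x hx z hz y hxy)

theorem conj_C (g x : G) : (C x).map (MulAut.conj g).toMonoidHom = C (g * x * g⁻¹) := by
  ext y
  rw [Subgroup.mem_map, mem_C]
  constructor
  · rintro ⟨z, hz, rfl⟩
    have h1 := mem_C.mp hz
    show g * z * g⁻¹ * (g * x * g⁻¹) = g * x * g⁻¹ * (g * z * g⁻¹)
    calc g * z * g⁻¹ * (g * x * g⁻¹) = g * (z * x) * g⁻¹ := by group
      _ = g * x * g⁻¹ * (g * z * g⁻¹) := by rw [h1]; group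
  · intro hy
    refine ⟨g⁻¹ * y * g, mem_C.mpr ?_, ?_⟩
    · calc g⁻¹ * y * g * x = g⁻¹ * (y * (g * x * g⁻¹)) * g := by group
        _ = x * (g⁻¹ * y * g) := by rw [hy]; group
    · show g * (g⁻¹ * y * g) * g⁻¹ = y
      group

theorem conj_ne_one {g x : G} (hx : x ≠ 1) : g * x * g⁻¹ ≠ 1 := by
  intro h
  apply hx
  calc x = g⁻¹ * (g * x * g⁻¹) * g := by group
    _ = 1 := by rw [h]; group

/-- centralizers of non-identity elements are TI -/
theorem isTI (h : CA G) {x : G} (hx : x ≠ 1) : IsTISubset (C x : Set G) := by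
  intro g hg a ha hga
  by_contra ha1
  apply hg
  rw [Subgroup.mem_normalizer_iff_map_conj_eq]
  have h1 : C a = C x := C_eq h hx ha1 ha
  have h2 : C (g * a * g⁻¹) = C x := C_eq h hx (conj_ne_one ha1) hga
  have h3 := conj_C g a
  rw [h1, h2] at h3
  exact h3

/-- Hall property -/
theorem exists_sylow_le [Finite G] (h : CA G) {x : G} (hx : x ≠ 1) (p : ℕ) [hp : Fact p.Prime]
    (hdvd : p ∣ Nat.card (C x)) : ∃ P : Sylow p G, (P : Subgroup G) ≤ C x := by
  obtain ⟨y, hy⟩ := exists_prime_orderOf_dvd_card' p hdvd
  have hyo : orderOf (y : G) = p := by rw [← hy, Subgroup.orderOf_coe]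
  have hy1 : (y : G) ≠ 1 := by
    intro h1
    rw [h1, orderOf_one] at hyo
    exact hp.out.one_lt.ne hyo
  have hpg : IsPGroup p (Subgroup.zpowers (y : G)) :=
    IsPGroup.of_card (n := 1) (by rw [Nat.card_zpowers, hyo, pow_one])
  obtain ⟨P, hP⟩ := hpg.exists_le_sylow
  have hyP : (y : G) ∈ (P : Subgroup G) := hP (Subgroup.mem_zpowers _)
  have hPnt : Nontrivial (P : Subgroup G) := ⟨⟨⟨y, hyP⟩, 1, fun h1 => hy1 (congrArg Subtype.val h1)⟩⟩
  have hZnt : Nontrivial (Subgroup.center (P : Subgroup G)) := IsPGroup.center_nontrivial P.isPGroup'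
  obtain ⟨z, hz⟩ := exists_ne (1 : Subgroup.center (P : Subgroup G))
  have hz1 : ((z : (P : Subgroup G)) : G) ≠ 1 := by
    intro h1
    apply hz
    apply Subtype.ext
    apply Subtype.ext
    exact h1
  have hPz : (P : Subgroup G) ≤ C ((z : (P : Subgroup G)) : G) := by
    intro s hs
    have h2 := Subgroup.mem_center_iff.mp z.2 ⟨s, hs⟩
    exact mem_C.mpr (congrArg Subtype.val h2)
  have hzy : ((z : (P : Subgroup G)) : G) ∈ C (y : G) :=
    mem_C.mpr (mem_C.mp (hPz hyP)).symm
  refine ⟨P, ?_⟩
  rw [← C_eq h hx hy1 y.2, ← C_eq h hy1 hz1 hzy]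
  exact hPz

theorem conj_or_coprime [Finite G] (h : CA G) {x y : G} (hx : x ≠ 1) (hy : y ≠ 1) :
    (∃ g : G, C y = (C x).map (MulAut.conj g).toMonoidHom) ∨
      Nat.Coprime (Nat.card (C x)) (Nat.card (C y)) := by
  by_cases hcop : Nat.Coprime (Nat.card (C x)) (Nat.card (C y))
  · exact Or.inr hcop
  left
  obtain ⟨p, hp, hpx, hpy⟩ := Nat.Prime.not_coprime_iff_dvd.mp hcop
  have := Fact.mk hp
  obtain ⟨P, hP⟩ := exists_sylow_le h hx p hpx
  obtain ⟨Q, hQ⟩ := exists_sylow_le h hy p hpy
  obtain ⟨g, hg⟩ := MulAction.exists_smul_eq G P Q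
  have hPnt : (P : Subgroup G) ≠ ⊥ := P.ne_bot_of_dvd_card (hpx.trans (Subgroup.card_subgroup_dvd_card _))
  obtain ⟨s, hs⟩ := (Subgroup.nontrivial_iff_exists_ne_one _).mp
    ((Subgroup.nontrivial_iff_ne_bot _).mpr hPnt)
  have hsQ : g * s * g⁻¹ ∈ (Q : Subgroup G) := by
    rw [← hg]
    exact ⟨s, hs.1, rfl⟩
  refine ⟨g, ?_⟩
  rw [← C_eq h hx hs.2 (hP hs.1), conj_C]
  exact (C_eq h hy (conj_ne_one hs.2) (hQ hsQ)).symm

theorem card_conj (g : G) (H : Subgroup G) :
    Nat.card (H.map (MulAut.conj g).toMonoidHom) = Nat.card H :=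
  Subgroup.card_map_of_injective (MulAut.conj g).injective

theorem ca_odd : ∀ (n : ℕ) (G : Type u) [Group G] [Finite G], Nat.card G = n →
    Odd (Nat.card G) → CA G → Group.IsSolvable G := by
  intro n
  induction n using Nat.strong_induction_on with
  | _ n ih =>
    intro G _ _ hn hodd hCA
    by_contra hns
    have := Fintype.ofFinite G
    -- the centralizers are properly contained in their normalizers
    have hlt : ∀ x : G, x ≠ 1 → C x < Subgroup.normalizer (C x : Set G) := by
      intro x hx
      refine lt_of_le_of_ne Subgroup.le_normalizer ?_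
      intro heq
      -- Burnside transfer
      have hnt : Nat.card (C x) ≠ 1 := by
        intro h1
        have h2 := (Nat.card_eq_one_iff_unique.mp h1).1
        apply hx
        have h3 : (⟨x, self_mem_C x⟩ : C x) = 1 := Subsingleton.elim _ _
        exact congrArg Subtype.val h3
      obtain ⟨p, hp, hpd⟩ := Nat.exists_prime_and_dvd hnt
      have := Fact.mk hp
      obtain ⟨P, hP⟩ := exists_sylow_le hCA hx p hpd
      have hPne : (P : Subgroup G) ≠ ⊥ :=
        P.ne_bot_of_dvd_card (hpd.trans (Subgroup.card_subgroup_dvd_card _))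
      have hNC : Subgroup.normalizer (P : Set G) ≤ Subgroup.centralizer (P : Set G) := by
        intro g hg
        have hgN : g ∈ Subgroup.normalizer (C x : Set G) := by
          obtain ⟨s, hs⟩ := (Subgroup.nontrivial_iff_exists_ne_one _).mp
            ((Subgroup.nontrivial_iff_ne_bot _).mpr hPne)
          by_contra hcon
          have h1 : g * s * g⁻¹ ∈ (P : Subgroup G) := (Subgroup.mem_normalizer_iff.mp hg s).mp hs.1
          exact hs.2 (isTI hCA hx g hcon s (hP hs.1) (hP h1))
        rw [← heq] at hgN
        rw [Subgroup.mem_centralizer_iff]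
        intro s hs
        exact hCA x hx s (hP hs) g hgN
      let K := (MonoidHom.transferSylow P hNC).ker
      have hcompl := MonoidHom.ker_transferSylow_isComplement' P hNC
      have hKlt : Nat.card K < n := by
        rw [← hn, ← hcompl.card_mul_card]
        have h1 : 1 < Nat.card (P : Subgroup G) := by
          have := (Subgroup.nontrivial_iff_ne_bot _).mpr hPne
          exact Finite.one_lt_card
        have h2 : 0 < Nat.card K := Nat.card_pos
        nlinarith
      have hKs : Group.IsSolvable K := ih _ hKlt K rfl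
        (Odd.of_dvd_nat hodd (Subgroup.card_subgroup_dvd_card K)) (hCA.subgroup K)
      have hPs : Group.IsSolvable (P : Subgroup G) := by
        have : Group.IsNilpotent (P : Subgroup G) := P.isPGroup'.isNilpotent
        infer_instance
      apply hns
      exact Group.isSolvable_of_ker_le_range K.subtype (MonoidHom.transferSylow P hNC) (by
        rw [Subgroup.range_subtype])
    -- the index set
    let S := {A : Subgroup G // ∃ x : G, x ≠ 1 ∧ A = C x}
    let r : Setoid S :=
      { r := fun A B => ∃ g : G, B.1 = A.1.map (MulAut.conj g).toMonoidHom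
        iseqv :=
          { refl := fun A => ⟨1, by
              ext y; simp [Subgroup.mem_map]⟩
            symm := by
              rintro A B ⟨g, hg⟩
              refine ⟨g⁻¹, ?_⟩
              rw [hg, Subgroup.map_map]
              ext y
              simp [Subgroup.mem_map, mul_assoc]
            trans := by
              rintro A B D ⟨g, hg⟩ ⟨k, hk⟩
              refine ⟨k * g, ?_⟩
              rw [hk, hg, Subgroup.map_map]
              congr 1
              ext y
              simp [mul_assoc] } }
    let ι := Quotient r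
    have : Finite S := inferInstance
    have : Finite ι := Quotient.finite _
    have := Fintype.ofFinite ι
    let H : ι → Subgroup G := fun i => (Quotient.out i).1
    have hH : ∀ i, ∃ x : G, x ≠ 1 ∧ H i = C x := fun i => (Quotient.out i).2
    -- every centralizer is conjugate to some `H i`
    have hrep : ∀ x : G, x ≠ 1 → ∃ i, ∃ g : G, H i = (C x).map (MulAut.conj g).toMonoidHom := by
      intro x hx
      let A : S := ⟨C x, x, hx, rfl⟩
      refine ⟨Quotient.mk r A, ?_⟩
      have h1 : r.r A (Quotient.out (Quotient.mk r A)) :=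
        Quotient.exact (Quotient.out_eq (Quotient.mk r A)).symm
      exact h1
    have hcop : ∀ i j, i ≠ j → Nat.Coprime (Nat.card (H i)) (Nat.card (H j)) := by
      intro i j hij
      obtain ⟨x, hx, hix⟩ := hH i
      obtain ⟨y, hy, hjy⟩ := hH j
      rcases conj_or_coprime hCA hx hy with ⟨g, hg⟩ | h
      · exfalso
        apply hij
        rw [← hix, ← hjy] at hg
        have h1 : r.r (Quotient.out i) (Quotient.out j) := ⟨g, hg⟩
        rw [← Quotient.out_eq i, ← Quotient.out_eq j]
        exact Quotient.sound h1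
      · rw [hix, hjy]; exact h
    have hcover : ∀ g : G, g ≠ 1 → ∃ i, ∃ x : G, x * g * x⁻¹ ∈ H i := by
      intro g hg
      obtain ⟨i, x, hx⟩ := hrep g hg
      refine ⟨i, x, ?_⟩
      rw [hx]
      exact ⟨g, self_mem_C g, rfl⟩
    have hι : 2 ≤ Fintype.card ι := by
      by_contra hlt2
      have hGnt : Nontrivial G := by
        by_contra hcon
        rw [not_nontrivial_iff_subsingleton] at hcon
        apply hns
        exact Group.isSolvable_of_comm (fun a b => Subsingleton.elim _ _)
      obtain ⟨x, hx⟩ := exists_ne (1 : G)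
      have hsub : Subsingleton ι := by
        rw [← Fintype.card_le_one_iff_subsingleton]; omega
      have hcardeq : ∀ y : G, y ≠ 1 → Nat.card (C y) = Nat.card (C x) := by
        intro y hy
        obtain ⟨i, g, hi⟩ := hrep y hy
        obtain ⟨j, k, hj⟩ := hrep x hx
        rw [← card_conj g, ← hi, ← card_conj k (C x), ← hj, Subsingleton.elim i j]
      have htop : C x = ⊤ := by
        apply Subgroup.index_eq_one.mp
        by_contra hidx
        obtain ⟨p, hp, hpd⟩ := Nat.exists_prime_and_dvd hidx
        have := Fact.mk hp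
        have hpG : p ∣ Nat.card G := hpd.trans (Subgroup.index_dvd_card _)
        obtain ⟨y, hy⟩ := exists_prime_orderOf_dvd_card' p hpG
        have hy1 : y ≠ 1 := by
          rintro rfl
          rw [orderOf_one] at hy
          exact hp.one_lt.ne hy
        have hpC : p ∣ Nat.card (C x) := by
          rw [← hcardeq y hy1, ← hy]
          exact Subgroup.orderOf_dvd_natCard _ (self_mem_C y)
        obtain ⟨P, hP⟩ := exists_sylow_le hCA hx p hpC
        have h1 : (C x).index ∣ (P : Subgroup G).index := Subgroup.index_dvd_of_le hP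
        exact P.not_dvd_index (hpd.trans h1)
      apply hns
      refine Group.isSolvable_of_comm (fun a b => hCA x hx a ?_ b ?_)
      · show a ∈ C x
        rw [htop]; trivial
      · show b ∈ C x
        rw [htop]; trivial
    refine H4.NoPartition.no_partition hodd hι (fun i => Subgroup.normalizer (H i : Set G)) H
      ?_ ?_ ?_ ?_ hcop ?_ hcover ?_
    · intro i
      obtain ⟨x, hx, hix⟩ := hH i
      rw [hix]; exact hlt x hx
    · intro i h
      obtain ⟨x, hx, hix⟩ := hH i
      rw [hix] at h
      have h1 := self_mem_C x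
      rw [h] at h1
      exact hx (Subgroup.mem_bot.mp h1)
    · intro i x hx h hh
      exact (Subgroup.mem_normalizer_iff.mp hx h).mp hh
    · intro i h hh h1 z hz
      obtain ⟨x, hx, hix⟩ := hH i
      rw [hix] at hh ⊢
      rw [← C_eq hCA hx h1 hh]
      exact hz.2
    · intro i
      obtain ⟨x, hx, hix⟩ := hH i
      refine ⟨?_, rfl⟩
      rw [hix]; exact isTI hCA hx
    · intro i
      obtain ⟨x, hx, hix⟩ := hH i
      rw [hix]
      let _ : CommGroup (C x) := { (inferInstance : Group (C x)) with
        mul_comm := fun a b => Subtype.ext (hCA x hx a a.2 b b.2) }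
      infer_instance

end H4.CAOdd
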