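import Mathlib
import Cfsg.Prelude.Def_Characters
import Cfsg.Agent.Lib.H4.CharCount
import Cfsg.Agent.Lib.H78.Galois

/-!
# Rational-valued characters (H4.Rational)
-/

set_option autoImplicit false
open Cfsg Representation
open scoped ComplexConjugate

namespace H4.Rational

universe u v w

/-- an algebraic complex number fixed by all automorphisms of `ℂ` is rational -/
theorem exists_rat_of_fixed {α : ℂ} (hα : IsIntegral ℚ α) (h : ∀ σ : ℂ ≃+* ℂ, σ α = α) :
    ∃ q : ℚ, α = (q : ℂ) := by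
  classical
  let K := IntermediateField.adjoin ℚ {α}
  let i : K →+* ℂ := algebraMap K ℂ
  have : Countable K := by
    have : FiniteDimensional ℚ K := IntermediateField.adjoin.finiteDimensional hα
    have e := (Module.finBasis ℚ K).equivFun.toEquiv
    exact e.injective.countable
  -- all roots of the minimal polynomial equal `α`
  have hroot : ∀ β ∈ (minpoly ℚ α).aroots ℂ, β = α := by
    intro β hβ
    let j : K →ₐ[ℚ] ℂ := (IntermediateField.algHomAdjoinIntegralEquiv ℚ hα).symm ⟨β, hβ⟩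
    have hj : j (IntermediateField.AdjoinSimple.gen ℚ α) = β :=
      IntermediateField.algHomAdjoinIntegralEquiv_symm_apply_gen ℚ hα _
    obtain ⟨σ, hσ⟩ := H78.Galois.exists_ringEquiv_of_embeddings i j.toRingHom
    have h1 := hσ (IntermediateField.AdjoinSimple.gen ℚ α)
    have h2 : i (IntermediateField.AdjoinSimple.gen ℚ α) = α := rfl
    rw [h2, h] at h1
    rw [h1]; exact hj.symm
  have hcard : ((minpoly ℚ α).aroots ℂ).card = (minpoly ℚ α).natDegree :=
    IsAlgClosed.card_aroots_eq_natDegree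
  have hsep : (minpoly ℚ α).Separable := (minpoly.irreducible hα).separable
  have hnodup : ((minpoly ℚ α).aroots ℂ).Nodup := Polynomial.nodup_aroots_iff_of_splits
    (minpoly.ne_zero hα) (IsAlgClosed.splits _) |>.mpr hsep
  have hle : (minpoly ℚ α).natDegree ≤ 1 := by
    rw [← hcard]
    have h1 : ((minpoly ℚ α).aroots ℂ) ≤ {α} := by
      rw [Multiset.le_iff_subset hnodup]
      intro β hβ
      rw [Multiset.mem_singleton]
      exact hroot β hβ
    exact Multiset.card_le_card h1
  have hpos := minpoly.natDegree_pos hα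
  have h1 : (minpoly ℚ α).natDegree = 1 := by omega
  have h2 : (minpoly ℚ α).degree = 1 := by
    rw [Polynomial.degree_eq_natDegree (minpoly.ne_zero hα), h1]; rfl
  obtain ⟨q, hq⟩ := minpoly.mem_range_of_degree_eq_one ℚ α h2
  exact ⟨q, by rw [← hq]; simp⟩

/-- every automorphism of `ℂ` acts on `n`-th roots of unity as a power map prime to `n` -/
theorem exists_pow_of_ringEquiv {n : ℕ} (hn : n ≠ 0) (σ : ℂ ≃+* ℂ) :
    ∃ k : ℕ, k.Coprime n ∧ ∀ z : ℂ, z ^ n = 1 → σ z = z ^ k := by
  have : NeZero n := ⟨hn⟩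
  have hζ := Complex.isPrimitiveRoot_exp n hn
  set ζ := Complex.exp (2 * Real.pi * Complex.I / n) with hζdef
  have hσζ : IsPrimitiveRoot (σ ζ) n := hζ.map_of_injective (f := σ.toRingHom) σ.injective
  obtain ⟨k, -, hk⟩ := hζ.eq_pow_of_pow_eq_one hσζ.pow_eq_one
  refine ⟨k, ?_, ?_⟩
  · rw [← hk] at hσζ
    exact (hζ.pow_iff_coprime (Nat.pos_of_ne_zero hn) k).mp hσζ
  · intro z hz
    obtain ⟨i, -, hi⟩ := hζ.eq_pow_of_pow_eq_one hz
    rw [← hi, map_pow, ← hk, ← pow_mul, ← pow_mul, mul_comm]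

variable {G : Type u} [Group G]

theorem rational_iff [Finite G] : (∀ χ : IrrCharacter G, ∀ g : G, ∃ q : ℚ, (χ : G → ℂ) g = (q : ℂ)) ↔
    ∀ m : ℕ, m.Coprime (Nat.card G) → ∀ g : G, IsConj g (g ^ m) := by
  have := Fintype.ofFinite G
  constructor
  · intro h m hm g
    rw [H4.CharCount.isConj_iff_irr]
    intro χ
    obtain ⟨σ, hσ⟩ := H78.Galois.exists_ringEquiv Nat.card_pos.ne' hm
    obtain ⟨q, hq⟩ := h χ g
    have h1 := H78.Galois.char_map_eq_pow dvd_rfl (σ := σ.toRingHom) hσ
      (H4.CharBasic.IsIrrCharacter.isCharacter χ.2) g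
    rw [← h1, hq]; simp
  · intro h χ g
    have hχ := H4.CharBasic.IsIrrCharacter.isCharacter χ.2
    apply exists_rat_of_fixed
    · exact (H4.CharBasic.IsCharacter.isIntegral hχ g).tower_top
    · intro σ
      obtain ⟨k, hk, hσ⟩ := exists_pow_of_ringEquiv (n := Nat.card G) Nat.card_pos.ne' σ
      have h1 := H78.Galois.char_map_eq_pow dvd_rfl (σ := σ.toRingHom) hσ hχ g
      have h2 : (χ : G → ℂ) g = (χ : G → ℂ) (g ^ k) :=
        (H4.CharCount.isConj_iff_irr _ _).mp (h k hk g) χ
      exact h1.trans h2.symm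

end H4.Rational
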