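import Cfsg.Agent.Lib.H4.CAA
import Cfsg.Agent.S0046

set_option autoImplicit false
set_option linter.unusedVariables false
set_option maxHeartbeats 400000

/-!
# S4369, piece C1
-/

namespace H4.CAC1

open Subgroup H4.CA H4.CAA

universe u

variable {G : Type u} [Group G]

theorem bad_conj {x : G} (hx : Bad x) (g : G) : Bad (g * x * g⁻¹) := by
  obtain ⟨h1, a, b, xa, xb, ab⟩ := hx
  refine ⟨?_, g * a * g⁻¹, g * b * g⁻¹, ?_, ?_, ?_⟩
  · intro h
    apply h1
    have h2 : g * x * g⁻¹ = x := by
      have := (mem_Z.1 h) g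
      have h3 : (g * x * g⁻¹) * g = g * (g * x * g⁻¹) := this.eq
      have h4 : g * x = g * (g * x * g⁻¹) := by rw [← h3]; group
      exact (mul_left_cancel h4).symm
    rw [h2] at h; exact h
  · have := xa.eq
    show (g * x * g⁻¹) * (g * a * g⁻¹) = (g * a * g⁻¹) * (g * x * g⁻¹)
    calc (g * x * g⁻¹) * (g * a * g⁻¹) = g * (x * a) * g⁻¹ := by group
      _ = g * (a * x) * g⁻¹ := by rw [this]
      _ = _ := by group
  · have := xb.eq
    show (g * x * g⁻¹) * (g * b * g⁻¹) = (g * b * g⁻¹) * (g * x * g⁻¹)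
    calc (g * x * g⁻¹) * (g * b * g⁻¹) = g * (x * b) * g⁻¹ := by group
      _ = g * (b * x) * g⁻¹ := by rw [this]
      _ = _ := by group
  · intro h
    apply ab
    have h1 : g * (a * b) * g⁻¹ = g * (b * a) * g⁻¹ := by
      calc g * (a * b) * g⁻¹ = (g * a * g⁻¹) * (g * b * g⁻¹) := by group
        _ = (g * b * g⁻¹) * (g * a * g⁻¹) := h.eq
        _ = g * (b * a) * g⁻¹ := by group
    exact mul_left_cancel (mul_right_cancel h1)

/-- L4 -/
theorem solv_le_ce [Finite G] (h : F0 G) (R : Subgroup G) (hR : R.Normal) (hs : Group.IsSolvable R)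
    {x : G} (hx : Bad x) : R ≤ centralizer ({x} : Set G) := by
  by_contra hRC
  set C := centralizer ({x} : Set G) with hC
  have hco : IsCoatom C := h.coatom x hx
  have hsup : C ⊔ R = ⊤ := by
    apply hco.2
    refine lt_of_le_of_ne le_sup_left ?_
    intro e
    exact hRC (e ▸ le_sup_right)
  let X := G ⧸ R
  let φ1 : G →* X := QuotientGroup.mk' R
  let φ2 : X →* X ⧸ center X := QuotientGroup.mk' (center X)
  let φ : G →* X ⧸ center X := φ2.comp φ1
  have hφR : ∀ r ∈ R, φ1 r = 1 := fun r hr => (QuotientGroup.eq_one_iff r).2 hr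
  have hsurj1 : ∀ y : X, ∃ c ∈ C, φ1 c = y := by
    intro y
    obtain ⟨g, rfl⟩ := QuotientGroup.mk'_surjective R y
    have hg : g ∈ C ⊔ R := hsup ▸ mem_top g
    obtain ⟨c, hc, r, hr, rfl⟩ := (mem_sup_of_normal_right (s := C) (t := R)).1 hg
    refine ⟨c, hc, ?_⟩
    show φ1 c = φ1 (c * r)
    rw [map_mul, hφR r hr, mul_one]
  have hxc : φ1 x ∈ center X := by
    rw [mem_Z]
    intro y
    obtain ⟨c, hc, rfl⟩ := hsurj1 y
    exact (mem_ce.1 hc).map φ1
  have hφx : φ x = 1 := (QuotientGroup.eq_one_iff _).2 hxc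
  have hsurj : ∀ y : X ⧸ center X, ∃ c ∈ C, φ c = y := by
    intro y
    obtain ⟨z, rfl⟩ := QuotientGroup.mk'_surjective (center X) y
    obtain ⟨c, hc, rfl⟩ := hsurj1 z
    exact ⟨c, hc, rfl⟩
  have hY : ¬ Group.IsSolvable (X ⧸ center X) := by
    intro hY
    apply h.ns
    rw [Group.isSolvable_iff_subgroup_quotient R]
    refine ⟨hs, ?_⟩
    show Group.IsSolvable X
    rw [Group.isSolvable_iff_subgroup_quotient (center X)]
    refine ⟨?_, hY⟩
    apply Group.isSolvable_of_comm
    intro a b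
    exact Subtype.ext ((mem_Z.1 a.2) b).eq
  apply hY
  apply Cfsg.Agent.S0046.result
  intro M hM
  by_contra hnil
  have hH : M.comap φ ≠ ⊤ := by
    intro e
    apply hM.1
    rw [eq_top_iff]
    intro y _
    obtain ⟨c, hc, rfl⟩ := hsurj y
    have : c ∈ M.comap φ := e ▸ mem_top c
    exact this
  have hxH : x ∈ M.comap φ := by
    rw [mem_comap, hφx]; exact one_mem _
  have hRH : R ≤ M.comap φ := by
    intro r hr
    rw [mem_comap]
    have : φ r = 1 := by
      show φ2 (φ1 r) = 1
      rw [hφR r hr, map_one]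
    rw [this]; exact one_mem _
  have hab : ∀ a ∈ M.comap φ, ∀ b ∈ M.comap φ, a ∈ C → b ∈ C → Commute a b := by
    intro a ha b hb haC hbC
    by_contra hab
    exact hRC (hRH.trans (L0 h.toMN hH hxH ha hb (mem_ce.1 haC) (mem_ce.1 hbC) hab))
  apply hnil
  have hcomm : ∀ a b : M, a * b = b * a := by
    intro a b
    obtain ⟨c, hc, ec⟩ := hsurj a
    obtain ⟨d, hd, ed⟩ := hsurj b
    have h1 : Commute c d := hab c (by rw [mem_comap, ec]; exact a.2) d (by rw [mem_comap, ed]; exact b.2) hc hd
    have h2 := h1.map φ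
    rw [ec, ed] at h2
    exact Subtype.ext h2.eq
  letI : CommGroup M := { (inferInstance : Group M) with mul_comm := hcomm }
  exact CommGroup.isNilpotent

/-- **piece C1** -/
theorem solv_le [Finite G] (h : F0 G) (hB : ∀ A : Subgroup G, A.Normal → (∀ a ∈ A, ∀ b ∈ A, Commute a b) → ∀ x ∈ A, ¬ Bad x)
    (R : Subgroup G) (hR : R.Normal) (hs : Group.IsSolvable R) : R ≤ center G := by
  obtain ⟨x, hx⟩ := h.bad
  set W := normalClosure ({x} : Set G) with hW
  have hxW : x ∈ W := subset_normalClosure rfl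
  -- a normal solvable subgroup centralizes W
  have key : ∀ R : Subgroup G, R.Normal → Group.IsSolvable R → ∀ r ∈ R, ∀ w ∈ W, Commute r w := by
    intro R hR hs r hr w hw
    haveI := hR
    have h1 : W ≤ centralizer (R : Set G) := by
      apply normalClosure_le_normal
      intro y hy
      rw [Set.mem_singleton_iff] at hy
      subst hy
      show y ∈ centralizer (R : Set G)
      rw [mem_centralizer_iff]
      intro m hm
      exact (mem_ce.1 (solv_le_ce h R hR hs hx hm)).eq.symm
    exact (mem_centralizer_iff.1 (h1 hw)) r hr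
  by_cases hWs : Group.IsSolvable W
  · exfalso
    exact hB W normalClosure_normal (fun a ha b hb => key W normalClosure_normal hWs a ha b hb) x hxW hx
  · intro r hr
    apply h.cent W normalClosure_normal hWs
    rw [mem_centralizer_iff]
    intro w hw
    exact (key R hR hs r hr w hw).eq.symm

end H4.CAC1
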