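import Cfsg.Agent.Lib.H4.CAA
import Cfsg.Agent.Lib.H1.FpfNilp

set_option autoImplicit false
set_option linter.unusedVariables false
set_option maxHeartbeats 400000

/-!
# S4369, piece C2
-/

namespace H4.CAC2

open Subgroup H4.CA H4.CAA
open scoped Pointwise

universe u

variable {G : Type u} [Group G]

theorem cyc [Finite G] (h : F0 G) (hs : ∀ R : Subgroup G, R.Normal → Group.IsSolvable R → R ≤ center G)
    (hn : ∀ N : Subgroup G, N.Normal → N ≠ ⊤ → ∀ x ∈ N, ¬ Bad x) (N : Subgroup G) (hN : N.Normal)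
    (hT : N ≠ ⊤) (hZ : ¬ N ≤ center G) (x : G) (hx : Bad x) : N ⊔ zpowers x = ⊤ := by
  by_contra hne
  have hns : ¬ Group.IsSolvable N := fun hh => hZ (hs N hN hh)
  set C := centralizer ({x} : Set G) with hC
  have hco : IsCoatom C := h.coatom x hx
  have hNC : ¬ N ≤ C := by
    intro hh
    apply hx.1
    apply h.cent N hN hns
    rw [mem_centralizer_iff]
    intro n hn'
    exact (mem_ce.1 (hh hn')).eq.symm
  have hsup : C ⊔ N = ⊤ := by
    apply hco.2
    refine lt_of_le_of_ne le_sup_left ?_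
    intro e
    exact hNC (e ▸ le_sup_right)
  let q : G →* G ⧸ N := QuotientGroup.mk' N
  have hq1 : ∀ g, q g = 1 ↔ g ∈ N := fun g => QuotientGroup.eq_one_iff g
  have hcen : ∀ y : G ⧸ N, Commute (q x) y := by
    intro y
    obtain ⟨g, rfl⟩ := QuotientGroup.mk'_surjective N y
    have hg : g ∈ C ⊔ N := hsup ▸ mem_top g
    obtain ⟨c, hc, r, hr, rfl⟩ := (mem_sup_of_normal_right (s := C) (t := N)).1 hg
    have : q (c * r) = q c := by rw [map_mul, (hq1 r).2 hr, mul_one]
    show Commute (q x) (q (c * r))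
    rw [this]
    exact (mem_ce.1 hc).map q
  have hM : ((zpowers (q x)).comap q).Normal := by
    have : (zpowers (q x)).Normal := by
      refine ⟨fun y hy g => ?_⟩
      obtain ⟨k, rfl⟩ := mem_zpowers_iff.1 hy
      have h1 : g * q x ^ k * g⁻¹ = q x ^ k := by
        have := ((hcen g).zpow_left k).eq
        rw [← this]; group
      rw [h1]; exact hy
    exact this.comap q
  have hle : (zpowers (q x)).comap q ≤ N ⊔ zpowers x := by
    intro g hg
    obtain ⟨k, hk⟩ := mem_zpowers_iff.1 (mem_comap.1 hg)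
    have h1 : g * (x ^ k)⁻¹ ∈ N := by
      rw [← hq1, map_mul, map_inv, map_zpow, ← hk, mul_inv_cancel]
    have h2 : g = (g * (x ^ k)⁻¹) * x ^ k := by group
    rw [h2]
    exact mul_mem (mem_sup_left h1) (mem_sup_right (zpow_mem (mem_zpowers x) k))
  refine hn _ hM ?_ x ?_ hx
  · intro e
    exact hne (eq_top_iff.2 (e ▸ hle))
  · rw [mem_comap]; exact mem_zpowers _

theorem noBad [Finite G] (h : F0 G) (hs : ∀ R : Subgroup G, R.Normal → Group.IsSolvable R → R ≤ center G)
    (N : Subgroup G) (hN : N.Normal) (hT : N ≠ ⊤) (x : G) (hx : x ∈ N) : ¬ Bad x := by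
  intro hb
  set C : Subgroup G := centralizer ({x} : Set G) with hC
  have hmC : ∀ y, y ∈ C ↔ Commute x y := fun y => mem_ce
  have hco : IsCoatom C := h.coatom x hb
  haveI := hN
  haveI hcn : (centralizer (N : Set G)).Normal := inferInstanceAs (centralizer (N : Set G)).Normal
  -- abelian normal subgroups are central
  have hab : ∀ A : Subgroup G, A.Normal → (∀ a ∈ A, ∀ b ∈ A, Commute a b) → A ≤ center G := by
    intro A hA hA'
    apply hs A hA
    apply Group.isSolvable_of_comm
    intro a b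
    exact Subtype.ext (hA' a a.2 b b.2).eq
  have hNcN : N ⊓ centralizer (N : Set G) ≤ center G := by
    apply hab
    · infer_instance
    · intro a ha b hb'
      exact ((mem_centralizer_iff.1 (mem_inf.1 hb').2) a (mem_inf.1 ha).1)
  have hNC : ¬ N ≤ C := by
    intro hh
    apply hb.1
    apply hNcN
    refine mem_inf.2 ⟨hx, ?_⟩
    rw [mem_centralizer_iff]
    intro n hn
    exact ((hmC n).1 (hh hn)).eq.symm
  have hAab : ∀ a ∈ N, ∀ b ∈ N, a ∈ C → b ∈ C → Commute a b := by
    intro a ha b hb' haC hbC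
    by_contra hc
    exact hNC (L0 h.toMN hT hx ha hb' ((hmC a).1 haC) ((hmC b).1 hbC) hc)
  have hcen : ∀ a ∈ N, a ∈ C → a ∉ center G → ∀ n ∈ N, Commute a n → n ∈ C := by
    intro a ha haC haZ n hn han
    rw [hmC]
    by_contra hc
    apply haZ
    apply hNcN
    refine mem_inf.2 ⟨ha, ?_⟩
    rw [mem_centralizer_iff]
    intro m hm
    exact (h.ca N hT a ha x hx n hn ((hmC a).1 haC).symm han hc m hm).eq.symm
  -- the normalizer of A
  have hnorm : normalizer ((N ⊓ C : Subgroup G) : Set G) ≤ C := by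
    have h1 : C ≤ normalizer ((N ⊓ C : Subgroup G) : Set G) := by
      intro c hc
      rw [mem_normalizer_iff]
      intro a
      constructor
      · intro ha
        exact mem_inf.2 ⟨hN.conj_mem a (mem_inf.1 ha).1 c, mul_mem (mul_mem hc (mem_inf.1 ha).2) (inv_mem hc)⟩
      · intro ha
        have e : a = c⁻¹ * (c * a * c⁻¹) * c⁻¹⁻¹ := by group
        rw [e]
        exact mem_inf.2 ⟨hN.conj_mem _ (mem_inf.1 ha).1 c⁻¹, mul_mem (mul_mem (inv_mem hc) (mem_inf.1 ha).2) (inv_mem (inv_mem hc))⟩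
    rcases hco.le_iff.1 h1 with h2 | h2
    · exfalso
      have hnn : (N ⊓ C : Subgroup G).Normal := normalizer_eq_top_iff.1 h2
      apply hb.1
      apply hab _ hnn
      · intro a ha b hb'
        exact hAab a (mem_inf.1 ha).1 b (mem_inf.1 hb').1 (mem_inf.1 ha).2 (mem_inf.1 hb').2
      · exact mem_inf.2 ⟨hx, (hmC x).2 (Commute.refl x)⟩
    · exact h2.le
  -- Frobenius
  let Z' : Subgroup N := (center G).subgroupOf N
  haveI hZn : Z'.Normal := inferInstanceAs ((center G).subgroupOf N).Normal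
  let B : Subgroup N := C.subgroupOf N
  have hBm : ∀ n : N, n ∈ B ↔ (n : G) ∈ C := fun n => mem_subgroupOf
  have hZm : ∀ n : N, n ∈ Z' ↔ (n : G) ∈ center G := fun n => mem_subgroupOf
  have hZB : Z' ≤ B := by
    intro n hn
    rw [hBm, hmC]
    exact ((mem_Z.1 ((hZm n).1 hn)) x).symm
  let q : N →* N ⧸ Z' := QuotientGroup.mk' Z'
  have hqs : Function.Surjective q := QuotientGroup.mk'_surjective Z'
  have hq1 : ∀ g, q g = 1 ↔ g ∈ Z' := fun g => QuotientGroup.eq_one_iff g
  have hqB : ∀ g, q g ∈ B.map q → g ∈ B := by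
    rintro g ⟨c, hc, hcg⟩
    have h1 : c⁻¹ * g ∈ Z' := by
      rw [← hq1, map_mul, map_inv, hcg, inv_mul_cancel]
    have h2 : g = c * (c⁻¹ * g) := by group
    rw [h2]
    exact mul_mem hc (hZB h1)
  have hF : Cfsg.IsFrobeniusComplement (B.map q) := by
    refine ⟨?_, ?_, ?_⟩
    · intro h1
      rw [Subgroup.map_eq_bot_iff] at h1
      apply hb.1
      have h2 : (⟨x, hx⟩ : N) ∈ B := (hBm _).2 ((hmC x).2 (Commute.refl x))
      exact (hZm _).1 ((hq1 _).1 (h1 h2))
    · intro h1
      apply hNC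
      intro n hn
      have h2 : (⟨n, hn⟩ : N) ∈ B := by
        apply hqB
        rw [h1]; exact mem_top _
      exact (hBm _).1 h2
    · intro gb hgb
      obtain ⟨g, rfl⟩ := hqs gb
      rw [eq_bot_iff]
      intro z hz12
      obtain ⟨hz1, hz2⟩ := mem_inf.1 hz12
      rw [mem_bot]
      rw [mem_smul_pointwise_iff_exists] at hz2
      obtain ⟨w, ⟨a, ha, rfl⟩, hw⟩ := hz2
      have hz : q (g * a * g⁻¹) = z := by
        rw [← hw]
        simp [MulAut.smul_def]
      have hzB : g * a * g⁻¹ ∈ B := hqB _ (by rw [hz]; exact hz1)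
      by_contra hne
      have hzZ : ((g * a * g⁻¹ : N) : G) ∉ center G := fun hd => hne (by rw [← hz]; exact (hq1 _).2 ((hZm _).2 hd))
      apply hgb
      refine ⟨g, ?_, rfl⟩
      rw [SetLike.mem_coe, hBm]
      apply hnorm
      -- g normalizes A
      have hfw : ∀ b : G, b ∈ N ⊓ C → (g : G) * b * (g : G)⁻¹ ∈ N ⊓ C := by
        intro b hb'
        obtain ⟨hbN, hbC⟩ := mem_inf.1 hb'
        refine mem_inf.2 ⟨hN.conj_mem b hbN g, ?_⟩
        refine hcen ((g * a * g⁻¹ : N) : G) (g * a * g⁻¹ : N).2 ((hBm _).1 hzB) hzZ _ (hN.conj_mem b hbN g) ?_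
        have hcab : Commute (a : G) b := hAab a a.2 b hbN ((hBm a).1 ha) hbC
        show ((g * a * g⁻¹ : N) : G) * ((g : G) * b * (g : G)⁻¹) = ((g : G) * b * (g : G)⁻¹) * ((g * a * g⁻¹ : N) : G)
        push_cast
        calc (g : G) * a * (g : G)⁻¹ * ((g : G) * b * (g : G)⁻¹) = (g : G) * (a * b) * (g : G)⁻¹ := by group
          _ = (g : G) * (b * a) * (g : G)⁻¹ := by rw [hcab.eq]
          _ = _ := by group
      have h1 : (N ⊓ C : Subgroup G).map (MulAut.conj (g : G)).toMonoidHom ≤ N ⊓ C := by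
        intro y hy
        obtain ⟨m, hm, e⟩ := mem_map.1 hy
        rw [← e]
        exact hfw m hm
      have h2 : (N ⊓ C : Subgroup G).map (MulAut.conj (g : G)).toMonoidHom = N ⊓ C := by
        apply Subgroup.eq_of_le_of_card_ge h1
        rw [Subgroup.card_map_of_injective (MulAut.conj (g : G)).injective]
      rw [mem_normalizer_iff]
      intro n
      constructor
      · intro hn'
        exact hfw n hn'
      · intro hn'
        have hn2 : (g : G) * n * (g : G)⁻¹ ∈ (N ⊓ C : Subgroup G).map (MulAut.conj (g : G)).toMonoidHom := by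
          rw [h2]; exact hn'
        obtain ⟨m, hm, e⟩ := mem_map.1 hn2
        have e' : (g : G) * m * (g : G)⁻¹ = g * n * (g : G)⁻¹ := e
        have : m = n := mul_left_cancel (mul_right_cancel e')
        exact this ▸ hm
  obtain ⟨K, -, hKn, hKc, hKnil⟩ := H1.FpfNilp.frobeniusKernel_nilpotent hF
  haveI := hKn
  have hKB : K ⊔ B.map q = ⊤ := hKc.sup_eq_top
  have hQs : Group.IsSolvable (N ⧸ Z') := by
    rw [Group.isSolvable_iff_subgroup_quotient K]
    refine ⟨?_, ?_⟩
    · haveI := hKnil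
      infer_instance
    · apply Group.isSolvable_of_comm
      have hsur : ∀ y : (N ⧸ Z') ⧸ K, ∃ b ∈ B, QuotientGroup.mk' K (q b) = y := by
        intro y
        obtain ⟨z, rfl⟩ := QuotientGroup.mk'_surjective K y
        have hz : z ∈ K ⊔ B.map q := hKB ▸ mem_top z
        obtain ⟨k, hk, w, ⟨b, hb', rfl⟩, rfl⟩ := (mem_sup_of_normal_left (s := K) (t := B.map q)).1 hz
        refine ⟨b, hb', ?_⟩
        have hk1 : QuotientGroup.mk' K k = 1 := (QuotientGroup.eq_one_iff k).2 hk
        rw [map_mul (QuotientGroup.mk' K), hk1, one_mul]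
      intro y1 y2
      obtain ⟨b1, hb1, rfl⟩ := hsur y1
      obtain ⟨b2, hb2, rfl⟩ := hsur y2
      have hc : Commute b1 b2 := Subtype.ext (hAab b1 b1.2 b2 b2.2 ((hBm b1).1 hb1) ((hBm b2).1 hb2)).eq
      exact ((hc.map q).map (QuotientGroup.mk' K)).eq
  have hNs : Group.IsSolvable N := by
    rw [Group.isSolvable_iff_subgroup_quotient Z']
    refine ⟨?_, hQs⟩
    apply Group.isSolvable_of_comm
    intro a b
    apply Subtype.ext
    apply Subtype.ext
    exact ((mem_Z.1 ((hZm _).1 a.2)) ((b : N) : G)).eq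
  exact hb.1 (hs N hN hNs hx)

end H4.CAC2
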