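import Cfsg.Agent.Lib.H4.CAA

set_option autoImplicit false
set_option linter.unusedVariables false
set_option maxHeartbeats 400000

/-!
# S4369: perfect case gives a simple central quotient
-/

namespace H4.CAF

open Subgroup H4.CA H4.CAA

universe u

variable {G : Type u} [Group G]

theorem simple_of_perfect (h : Frame G) (hp : commutator G = ⊤) : IsSimpleGroup (G ⧸ center G) := by
  obtain ⟨x, hx⟩ := h.bad
  have hnt : Nontrivial (G ⧸ center G) := by
    refine ⟨(x : G ⧸ center G), 1, ?_⟩
    intro e
    exact hx.1 ((QuotientGroup.eq_one_iff x).1 e)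
  refine { hnt with eq_bot_or_eq_top_of_normal := fun H hH => ?_ }
  set N : Subgroup G := H.comap (QuotientGroup.mk' (center G)) with hN
  haveI hNn : N.Normal := hH.comap _
  by_cases hZ : N ≤ center G
  · left
    rw [eq_bot_iff]
    intro y hy
    obtain ⟨g, rfl⟩ := QuotientGroup.mk'_surjective (center G) y
    have : g ∈ N := hy
    rw [mem_bot]
    exact (QuotientGroup.eq_one_iff g).2 (hZ this)
  · right
    have hT : N = ⊤ := by
      by_contra hne
      have hsup := h.cyc N hNn hne hZ x hx
      apply hne
      rw [eq_top_iff, ← hp]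
      -- commutators lie in N
      rw [commutator_def, commutator_le]
      intro a _ b _
      have hcyc : ∀ g : G, ∃ k : ℤ, QuotientGroup.mk' N g = (QuotientGroup.mk' N x) ^ k := by
        intro g
        have hg : g ∈ N ⊔ zpowers x := hsup ▸ mem_top g
        obtain ⟨n, hn, z, hz, rfl⟩ := (mem_sup_of_normal_left (s := N) (t := zpowers x)).1 hg
        obtain ⟨k, rfl⟩ := mem_zpowers_iff.1 hz
        refine ⟨k, ?_⟩
        have hk1 : QuotientGroup.mk' N n = 1 := (QuotientGroup.eq_one_iff n).2 hn
        rw [map_mul, hk1, one_mul, map_zpow]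
      obtain ⟨i, hi⟩ := hcyc a
      obtain ⟨j, hj⟩ := hcyc b
      have : QuotientGroup.mk' N (a * b * a⁻¹ * b⁻¹) = 1 := by
        rw [map_mul, map_mul, map_mul, map_inv, map_inv, hi, hj]; group
      exact (QuotientGroup.eq_one_iff _).1 this
    rw [eq_top_iff]
    intro y _
    obtain ⟨g, rfl⟩ := QuotientGroup.mk'_surjective (center G) y
    have : g ∈ N := hT ▸ mem_top g
    exact this

end H4.CAF
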