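import Cfsg.Agent.Lib.H4.CAA

set_option autoImplicit false
set_option linter.unusedVariables false
set_option maxHeartbeats 400000

/-!
# S4369: conversions
-/

namespace H4.CAP

open Subgroup H4.CA H4.CAA

universe u v

section
variable {G : Type u} [Group G]

theorem comm_of {H : Subgroup G} (h : IsMulCommutative H) {a b : G} (ha : a ∈ H) (hb : b ∈ H) : Commute a b := by
  have := h.is_comm.comm ⟨a, ha⟩ ⟨b, hb⟩
  exact congrArg Subtype.val this

theorem isMulComm_of {H : Subgroup G} (h : ∀ a ∈ H, ∀ b ∈ H, Commute a b) : IsMulCommutative H :=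
  ⟨⟨fun a b => Subtype.ext (h a a.2 b b.2)⟩⟩

theorem bad_iff : (∃ x : G, Bad x) ↔
    ¬ (∀ x : G, x ∉ center G → IsMulCommutative (centralizer ({x} : Set G))) := by
  constructor
  · rintro ⟨x, hx, a, b, xa, xb, ab⟩ h
    exact ab (comm_of (h x hx) (mem_ce.2 xa) (mem_ce.2 xb))
  · intro h
    by_contra hn
    apply h
    intro x hx
    apply isMulComm_of
    intro a ha b hb
    by_contra hab
    exact hn ⟨x, hx, a, b, mem_ce.1 ha, mem_ce.1 hb, hab⟩

theorem ca_iff {H : Subgroup G} : (∀ x : H, x ∉ center H → IsMulCommutative (centralizer ({x} : Set H))) ↔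
    ∀ x ∈ H, ∀ a ∈ H, ∀ b ∈ H, Commute x a → Commute x b → ¬ Commute a b → ∀ c ∈ H, Commute x c := by
  constructor
  · intro h x hx a ha b hb xa xb ab c hc
    by_contra xc
    have h1 : (⟨x, hx⟩ : H) ∉ center H := by
      intro h2
      exact xc (congrArg Subtype.val ((mem_Z.1 h2) ⟨c, hc⟩).eq)
    have h2 := comm_of (h _ h1) (a := ⟨a, ha⟩) (b := ⟨b, hb⟩)
      (mem_ce.2 (Subtype.ext xa.eq)) (mem_ce.2 (Subtype.ext xb.eq))
    exact ab (congrArg Subtype.val h2.eq)
  · intro h x hx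
    apply isMulComm_of
    intro a ha b hb
    by_contra hab
    apply hx
    rw [mem_Z]
    intro c
    have xa : Commute (x : G) a := congrArg Subtype.val (mem_ce.1 ha).eq
    have xb : Commute (x : G) b := congrArg Subtype.val (mem_ce.1 hb).eq
    have ab : ¬ Commute (a : G) b := fun hh => hab (Subtype.ext hh.eq)
    exact Subtype.ext (h x x.2 a a.2 b b.2 xa xb ab c c.2).eq

theorem mn_iff : (¬ Group.IsSolvable G ∧
    ¬ (∀ x : G, x ∉ center G → IsMulCommutative (centralizer ({x} : Set G))) ∧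
    ∀ H : Subgroup G, H ≠ ⊤ → (∀ x : H, x ∉ center H → IsMulCommutative (centralizer ({x} : Set H)))) ↔ MN G := by
  constructor
  · rintro ⟨h1, h2, h3⟩
    exact ⟨h1, fun H hH => ca_iff.1 (h3 H hH), bad_iff.2 h2⟩
  · intro h
    exact ⟨h.ns, bad_iff.1 h.bad, fun H hH => ca_iff.2 (h.ca H hH)⟩

end

theorem bad_equiv {G : Type u} [Group G] {K : Type v} [Group K] (e : G ≃* K) {x : G} (hx : Bad x) : Bad (e x) := by
  obtain ⟨h1, a, b, xa, xb, ab⟩ := hx
  refine ⟨?_, e a, e b, xa.map e, xb.map e, ?_⟩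
  · intro h
    apply h1
    rw [mem_Z] at h ⊢
    intro y
    have := h (e y)
    have := this.map e.symm
    simpa using this
  · intro h
    apply ab
    have := h.map e.symm
    simpa using this

theorem mn_equiv {G : Type u} [Group G] {K : Type v} [Group K] (e : G ≃* K) (h : MN G) : MN K where
  ns := fun hs => h.ns (Group.isSolvable_of_isSolvable_injective (f := e.toMonoidHom) e.injective)
  bad := by
    obtain ⟨x, hx⟩ := h.bad
    exact ⟨e x, bad_equiv e hx⟩
  ca := by
    intro H hH x hx a ha b hb xa xb ab c hc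
    have h1 : H.comap e.toMonoidHom ≠ ⊤ := by
      intro hh
      apply hH
      rw [eq_top_iff]
      intro y _
      have : e.symm y ∈ H.comap e.toMonoidHom := hh ▸ mem_top _
      have h3 : e (e.symm y) ∈ H := mem_comap.1 this
      simpa using h3
    have hm : ∀ y ∈ H, e.symm y ∈ H.comap e.toMonoidHom := by
      intro y hy
      rw [mem_comap]
      show e (e.symm y) ∈ H
      simpa using hy
    have h2 := h.ca _ h1 (e.symm x) (hm x hx) (e.symm a) (hm a ha) (e.symm b) (hm b hb)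
      (xa.map e.symm) (xb.map e.symm)
      (fun hh => ab (by have := hh.map e; simpa using this)) (e.symm c) (hm c hc)
    have := h2.map e
    simpa using this

/-- numerics for the converse -/
theorem num {q : ℕ} (h : (q.Prime ∧ 5 < q ∧ ¬ 16 ∣ q ^ 2 - 1) ∨
    (∃ p : ℕ, p.Prime ∧ p ≠ 2 ∧ (q = 3 ^ p ∨ q = 5 ^ p))) : (q % 8 = 3 ∨ q % 8 = 5) ∧ 5 < q := by
  rcases h with ⟨hp, h5, h16⟩ | ⟨p, hp, h2, h⟩
  · refine ⟨?_, h5⟩
    have hodd : q % 2 = 1 := hp.eq_two_or_odd.resolve_left (by omega)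
    have h8 : q % 8 = 1 ∨ q % 8 = 3 ∨ q % 8 = 5 ∨ q % 8 = 7 := by omega
    have hsq : ∀ m : ℕ, 16 ∣ (8 * m + 1) ^ 2 - 1 := by
      intro m
      have : (8 * m + 1) ^ 2 = 16 * (4 * m ^ 2 + m) + 1 := by ring
      rw [this]; simp
    have hsq7 : ∀ m : ℕ, 16 ∣ (8 * m + 7) ^ 2 - 1 := by
      intro m
      have : (8 * m + 7) ^ 2 = 16 * (4 * m ^ 2 + 7 * m + 3) + 1 := by ring
      rw [this]; simp
    rcases h8 with h | h | h | h
    · exfalso; apply h16
      have := hsq (q / 8)
      have e : 8 * (q / 8) + 1 = q := by omega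
      rwa [e] at this
    · left; exact h
    · right; exact h
    · exfalso; apply h16
      have := hsq7 (q / 8)
      have e : 8 * (q / 8) + 7 = q := by omega
      rwa [e] at this
  · obtain ⟨k, hk⟩ := hp.odd_of_ne_two h2
    have hk1 : 1 ≤ k := by
      have := hp.two_le; omega
    have e3 : 3 ^ p = 9 ^ k * 3 := by rw [hk, pow_succ, pow_mul]; norm_num
    have e5 : 5 ^ p = 25 ^ k * 5 := by rw [hk, pow_succ, pow_mul]; norm_num
    have m9 : 9 ^ k % 8 = 1 := by
      rw [Nat.pow_mod]; norm_num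
    have m25 : 25 ^ k % 8 = 1 := by
      rw [Nat.pow_mod]; norm_num
    have g9 : 9 ≤ 9 ^ k := by
      calc 9 = 9 ^ 1 := by norm_num
        _ ≤ 9 ^ k := Nat.pow_le_pow_right (by norm_num) hk1
    have g25 : 25 ≤ 25 ^ k := by
      calc 25 = 25 ^ 1 := by norm_num
        _ ≤ 25 ^ k := Nat.pow_le_pow_right (by norm_num) hk1
    rcases h with h | h
    · rw [h, e3]; refine ⟨Or.inl (by omega), by omega⟩
    · rw [h, e5]; refine ⟨Or.inr (by omega), by omega⟩

end H4.CAP
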