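import Cfsg.Agent.Lib.H57.Mc4

set_option autoImplicit false
set_option linter.unusedVariables false
set_option linter.unusedSectionVars false
set_option maxHeartbeats 400000

/-!
# S5316, piece EV5
-/

namespace H4.MXEV5

open Subgroup H67.HallPetrescu H57.Mc
open scoped commutatorElement

theorem comm_zpow {X : Type*} [Group X] {x g : X} (hd : ∀ y, Commute ⁅x, g⁆ y) (n m : ℤ) :
    ⁅x ^ n, g ^ m⁆ = ⁅x, g⁆ ^ (n * m) := by
  set d := ⁅x, g⁆ with hdd
  -- x g^m x⁻¹ = d^m g^m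
  have h1 : x * g * x⁻¹ = d * g := by rw [hdd, commutatorElement_def]; group
  have h2 : x * g ^ m * x⁻¹ = d ^ m * g ^ m := by
    rw [← conj_zpow, h1, (hd g).mul_zpow]
  -- g^m x g^-m = d^-m x
  have h3 : g ^ m * x * (g ^ m)⁻¹ = d ^ (-m) * x := by
    have h4 : g ^ m * x = x * ((d ^ m)⁻¹ * g ^ m) := by
      have : x * g ^ m = d ^ m * g ^ m * x := by rw [← h2]; group
      have hc : Commute (d ^ m)⁻¹ x := ((hd x).zpow_left m).inv_left
      calc g ^ m * x = (d ^ m)⁻¹ * (d ^ m * g ^ m * x) := by group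
        _ = (d ^ m)⁻¹ * (x * g ^ m) := by rw [this]
        _ = ((d ^ m)⁻¹ * x) * g ^ m := by group
        _ = (x * (d ^ m)⁻¹) * g ^ m := by rw [hc.eq]
        _ = x * ((d ^ m)⁻¹ * g ^ m) := by group
    rw [h4, zpow_neg]
    have hc : Commute (d ^ m)⁻¹ x := ((hd x).zpow_left m).inv_left
    calc x * ((d ^ m)⁻¹ * g ^ m) * (g ^ m)⁻¹ = x * (d ^ m)⁻¹ := by group
      _ = (d ^ m)⁻¹ * x := hc.eq.symm
  have h5 : g ^ m * x ^ n * (g ^ m)⁻¹ = d ^ (-m * n) * x ^ n := by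
    rw [← conj_zpow, h3, ((hd x).zpow_left (-m)).mul_zpow, ← zpow_mul]
  rw [commutatorElement_def]
  have h6 : x ^ n * g ^ m * (x ^ n)⁻¹ * (g ^ m)⁻¹ = x ^ n * (g ^ m * x ^ n * (g ^ m)⁻¹)⁻¹ := by group
  rw [h6, h5, mul_inv_rev, ← mul_assoc, mul_inv_cancel, one_mul, ← zpow_neg]
  congr 1
  ring

theorem comm_key {X : Type*} [Group X] {x g k u : X} (hd : ∀ y, Commute ⁅x, g⁆ y) (hk : ∀ y, Commute k y)
    (hu : Commute x u) (n m : ℤ) : ⁅x ^ n * k, g ^ m * u⁆ = ⁅x, g⁆ ^ (n * m) := by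
  rw [← comm_zpow hd n m, commutatorElement_def, commutatorElement_def]
  have h1 : Commute (x ^ n) u := hu.zpow_left n
  calc x ^ n * k * (g ^ m * u) * (x ^ n * k)⁻¹ * (g ^ m * u)⁻¹
      = x ^ n * (k * (g ^ m * u)) * k⁻¹ * (x ^ n)⁻¹ * (g ^ m * u)⁻¹ := by group
    _ = x ^ n * ((g ^ m * u) * k) * k⁻¹ * (x ^ n)⁻¹ * (g ^ m * u)⁻¹ := by rw [(hk _).eq]
    _ = x ^ n * g ^ m * (u * (x ^ n)⁻¹ * u⁻¹) * (g ^ m)⁻¹ := by group
    _ = x ^ n * g ^ m * (x ^ n)⁻¹ * (g ^ m)⁻¹ := by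
        have : u * (x ^ n)⁻¹ * u⁻¹ = (x ^ n)⁻¹ := by
          have := h1.inv_left.eq
          rw [← this]; group
        rw [this]

section
variable {G : Type*} [Group G] [Finite G] {p : ℕ} [hp : Fact p.Prime]

/-- the relation between eigenvalues in consecutive layers -/
theorem layer {n : ℕ} (h : MC p n G) {i : ℕ} (hi : 2 ≤ i) (hin : i + 2 ≤ n) (σ : MulAut G) {s u y : G} {m b c : ℤ}
    (hs : s ∉ TC G i) (hu : u ∈ TC G i) (hσs : σ s = s ^ m * u) (hy : y ∈ lcsF G i) (hy' : y ∉ lcsF G (i + 1))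
    (hc : y ^ (-c) * σ y ∈ lcsF G (i + 1))
    (hb : ⁅y, s⁆ ^ (-b) * σ ⁅y, s⁆ ∈ lcsF G (i + 2)) : (p : ℤ) ∣ c * m - b := by
  let q : G →* G ⧸ lcsF G (i + 2) := QuotientGroup.mk' _
  have hq : ∀ g, q g = 1 ↔ g ∈ lcsF G (i + 2) := fun g => QuotientGroup.eq_one_iff g
  have hcen : ∀ k ∈ lcsF G (i + 1), ∀ z, Commute (q k) z := by
    intro k hk z
    obtain ⟨g, rfl⟩ := QuotientGroup.mk'_surjective _ z
    show q k * q g = q g * q k
    rw [← commutatorElement_eq_one_iff_mul_comm, ← map_commutatorElement, hq]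
    exact comm_memK' hk g
  set k := y ^ (-c) * σ y with hk
  have hσy : σ y = y ^ c * k := by rw [hk]; group
  have e0 : q (σ y) = q y ^ c * q k := by rw [hσy, map_mul, map_zpow]
  have e0' : q (σ s) = q s ^ m * q u := by rw [hσs, map_mul, map_zpow]
  have e1 : q (σ ⁅y, s⁆) = ⁅q y, q s⁆ ^ (c * m) := by
    rw [map_commutatorElement σ, map_commutatorElement q, e0, e0']
    apply comm_key
    · intro z
      rw [← map_commutatorElement]
      exact hcen _ (comm_memK' hy s) z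
    · exact hcen k hc
    · show q y * q u = q u * q y
      rw [← commutatorElement_eq_one_iff_mul_comm, ← map_commutatorElement, hq]
      exact hu y hy
  have e2 : q (σ ⁅y, s⁆) = ⁅q y, q s⁆ ^ b := by
    have := (hq _).2 hb
    rw [map_mul, map_zpow, map_commutatorElement q, zpow_neg, inv_mul_eq_one] at this
    exact this.symm
  set d := ⁅q y, q s⁆ with hd
  have hd1 : d ≠ 1 := by
    rw [hd, ← map_commutatorElement, Ne, hq]
    exact h.step hi hin hs hy hy'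
  have hdp : d ^ p = 1 := by
    rw [hd, ← map_commutatorElement, ← map_pow, hq]
    -- the layer K(i+1)/K(i+2) has order p
    have hrel := h.relIndex (i := i + 1) (by omega) (by omega)
    have hnorm : (lcsF G (i + 2)).Normal := inferInstance
    have := Subgroup.pow_relIndex_mem (H := lcsF G (i + 2)) (K := lcsF G (i + 1)) (comm_memK' hy s)
    rwa [hrel] at this
  have hord : orderOf d = p := orderOf_eq_prime hdp hd1
  have e3 : d ^ (c * m - b) = 1 := by
    rw [zpow_sub, ← e1, ← e2, mul_inv_cancel]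
  rw [← hord]
  exact orderOf_dvd_iff_zpow_eq_one.2 e3

theorem eig5 (h : MC p 5 G) (h5 : 5 ≤ p) (σ : MulAut G)
    {a b c : ℤ} (ha : a = 1 ∨ a = -1) (hb : b = 1 ∨ b = -1) (hc : c = 1 ∨ c = -1)
    (h1 : ∀ z ∈ lcsF G 4, σ z = z ^ a) (h2 : ∀ z ∈ lcsF G 3, z ^ (-b) * σ z ∈ lcsF G 4)
    (h3 : ∀ z ∈ lcsF G 2, z ^ (-c) * σ z ∈ lcsF G 3) : a = c := by
  have hB : TC G 2 ≤ TC G 3 := h.thmB le_rfl (by omega) (by decide) (fun i hi hi' => by
    have : i = 2 := by omega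
    rw [this])
  have hT : TC G 3 = TC G 2 := h.TC_eq (by norm_num) (by norm_num) hB
  have hidx : (TC G 2).index = p := h.index_TC le_rfl (by norm_num)
  have hnorm : (TC G 2).Normal := h.normal_P1 (by norm_num)
  -- an element outside P1
  obtain ⟨s, hs⟩ : ∃ s : G, s ∉ TC G 2 := by
    by_contra hne
    push Not at hne
    have : TC G 2 = ⊤ := eq_top_iff.2 fun g _ => hne g
    rw [this, Subgroup.index_top] at hidx
    omega
  -- s generates G mod P1
  obtain ⟨m, u, hu, hσs⟩ : ∃ (m : ℤ) (u : G), u ∈ TC G 2 ∧ σ s = s ^ m * u := by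
    have hcard : Nat.card (G ⧸ TC G 2) = p := by rw [← Subgroup.index_eq_card]; exact hidx
    have hs1 : (QuotientGroup.mk' (TC G 2) s) ≠ 1 := fun e => hs ((QuotientGroup.eq_one_iff s).1 e)
    have hz := zpowers_eq_top_of_prime_card hcard hs1
    have hm : QuotientGroup.mk' (TC G 2) (σ s) ∈ zpowers (QuotientGroup.mk' (TC G 2) s) := by
      rw [hz]; exact mem_top _
    obtain ⟨m, hm⟩ := mem_zpowers_iff.1 hm
    refine ⟨m, (s ^ m)⁻¹ * σ s, ?_, by group⟩
    rw [← QuotientGroup.eq_one_iff]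
    show QuotientGroup.mk' (TC G 2) ((s ^ m)⁻¹ * σ s) = 1
    rw [map_mul, map_inv, map_zpow, hm, inv_mul_cancel]
  obtain ⟨y, hy, hy'⟩ := h.exists_mem (i := 2) le_rfl (by norm_num)
  have r1 : (p : ℤ) ∣ c * m - b := layer h (i := 2) le_rfl (by norm_num) σ hs hu hσs hy hy' (h3 y hy)
    (h2 _ (comm_memK' hy s))
  have hs3 : s ∉ TC G 3 := by rw [hT]; exact hs
  have hy3 : ⁅y, s⁆ ∈ lcsF G 3 := comm_memK' hy s
  have hy3' : ⁅y, s⁆ ∉ lcsF G 4 := h.step (i := 2) le_rfl (by norm_num) hs hy hy'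
  have r2 : (p : ℤ) ∣ b * m - a := layer h (i := 3) (by norm_num) (by norm_num) σ hs3 (by rw [hT]; exact hu) hσs
    hy3 hy3' (h2 _ hy3) (by
      have h4 := h1 _ (comm_memK' hy3 s)
      rw [h4, ← zpow_add]
      simp)
  have hp2 : ¬ (p : ℤ) ∣ 2 := by
    intro hd
    have := Int.le_of_dvd (by norm_num) hd
    omega
  have hp2' : ¬ (p : ℤ) ∣ -2 := fun hd => hp2 (by simpa using (dvd_neg.2 hd))
  -- a - c = -(b m - a) + b (c m - b) * c ... 
  have r3 : (p : ℤ) ∣ a - c := by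
    have hbb : b * b = 1 := by rcases hb with rfl | rfl <;> norm_num
    have hcc : c * c = 1 := by rcases hc with rfl | rfl <;> norm_num
    have e : a - c = b * c * (c * m - b) - (b * m - a) := by
      have : b * c * (c * m - b) = (c * c) * b * m - (b * b) * c := by ring
      rw [this, hbb, hcc]; ring
    rw [e]
    exact dvd_sub (Dvd.dvd.mul_left r1 _) r2
  rcases ha with rfl | rfl <;> rcases hc with rfl | rfl
  · rfl
  · exact absurd r3 (by norm_num; exact hp2)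
  · exact absurd r3 (by norm_num; exact hp2)
  · rfl

end

end H4.MXEV5
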