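import Mathlib
import Cfsg.Prelude.Def_OddOrderLocal
import Cfsg.Prelude.Def_OddOrderChar
import Cfsg.Agent.Lib.H4.PF1317
import Cfsg.Agent.Lib.H4.TypeConj
import Cfsg.Agent.Lib.H28.FitHall

/-!
Peterfalvi, section 8: the Dade hypotheses for `A₁(M)`, `A(M)`, `A₀(M)` from the structure theorems.
-/

set_option autoImplicit false
set_option linter.unusedSectionVars false

open Cfsg Subgroup H28.Cj H28.RelSyl
open H28.RelHall hiding inf_eq_bot_of_coprime

namespace H4.PF08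

universe u

variable {G : Type u} [Group G]

/-- the conclusion of S1391 for `M` and the set `X` -/
def Fact91 (M : Subgroup G) (X : Set G) : Prop :=
    (∀ x ∈ X, ∀ g : G, g * x * g⁻¹ ∈ X → ∃ m ∈ M, m * x * m⁻¹ = g * x * g⁻¹) ∧
      (∀ x ∈ X, ¬ Subgroup.centralizer ({x} : Set G) ≤ M → x ∈ Cfsg.typeA1 M ∧ ∃! L : Subgroup G, IsCoatom L ∧ Subgroup.centralizer ({x} : Set G) ≤ L) ∧
      ∀ x ∈ X, ¬ Subgroup.centralizer ({x} : Set G) ≤ M → ∀ L : Subgroup G, IsCoatom L → Subgroup.centralizer ({x} : Set G) ≤ L →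
        Cfsg.IsComplIn (Cfsg.fittingHallOf L) (M ⊓ L) L ∧
        Subgroup.centralizer ({x} : Set G) ≤ Subgroup.normalizer ((Cfsg.fittingHallOf L ⊓ Subgroup.centralizer ({x} : Set G) : Subgroup G) : Set G) ∧
        Cfsg.IsComplIn (Cfsg.fittingHallOf L ⊓ Subgroup.centralizer ({x} : Set G)) (M ⊓ Subgroup.centralizer ({x} : Set G)) (Subgroup.centralizer ({x} : Set G)) ∧
        (∀ y ∈ X, (Nat.card (Cfsg.fittingHallOf L)).Coprime (Nat.card ↥(M ⊓ Subgroup.centralizer ({y} : Set G)))) ∧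
        (x ∈ Cfsg.typeA L ∧ x ∉ Cfsg.typeA1 L) ∧
        (Cfsg.IsOfTypeI L ∨ Cfsg.IsOfTypeII L) ∧
        (Cfsg.IsOfTypeII L → ∃ E : Subgroup ↥M, Cfsg.IsFrobeniusComplement E ∧ Cfsg.frobeniusKernel E = ((Cfsg.fittingHall ↥M : Subgroup ↥M) : Set ↥M))

/-- what is used about a maximal subgroup `M` (from S1391, S1355, S1389) -/
structure Max (M : Subgroup G) : Prop where
  hG : IsMinSimpleOddOrder G
  coatom : IsCoatom M
  F_ne : fittingHallOf M ≠ ⊥
  F_le : fittingHallOf M ≤ ⁅M, M⁆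
  a : Fact91 M (typeA M)
  a0 : Fact91 M (typeA0 M)

theorem fitting_le_typeCore {M : Subgroup G} (h : fittingHallOf M ≤ ⁅M, M⁆) : fittingHallOf M ≤ typeCore M := by
  unfold typeCore
  split_ifs
  · exact h
  · exact le_rfl

theorem typeCore_le_derived {M : Subgroup G} (h : fittingHallOf M ≤ ⁅M, M⁆) : typeCore M ≤ ⁅M, M⁆ := by
  unfold typeCore
  split_ifs
  · exact le_rfl
  · exact h

theorem typeCore_le (M : Subgroup G) : typeCore M ≤ M := by
  unfold typeCore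
  split_ifs
  · exact Subgroup.commutator_le_self M
  · exact H29.FitHall.fittingHallOf_le M

theorem le_normalizer_typeCore (M : Subgroup G) : M ≤ normalizer (typeCore M : Set G) := by
  unfold typeCore
  split_ifs
  · exact Subgroup.normalizer_commutator_ge_left _ _
  · exact H29.FitHall.le_normalizer_fittingHallOf M

theorem one_not_mem_typeA1 (M : Subgroup G) : (1 : G) ∉ typeA1 M := fun h => h.2 rfl

theorem ne_one_of_mem_typeA {M : Subgroup G} {x : G} (h : x ∈ typeA M) : x ≠ 1 := by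
  unfold typeA at h
  split_ifs at h
  · exact h.2.1
  · exact h.2.1

theorem ne_one_of_mem_typeA0 {M : Subgroup G} {x : G} (h : x ∈ typeA0 M) : x ≠ 1 := by
  rcases h with h | ⟨-, W₁, U, W₂, -, m, -, w, -, hw1, -, rfl⟩
  · exact ne_one_of_mem_typeA h
  · intro h
    apply hw1
    have : w = m⁻¹ * (m * w * m⁻¹) * m := by group
    rw [this, h]
    simp [one_mem]

theorem typeA_le {M : Subgroup G} {x : G} (h : x ∈ typeA M) : x ∈ M := by
  unfold typeA at h
  split_ifs at h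
  · exact h.1
  · exact Subgroup.commutator_le_self M h.1

theorem typeA0_le {M : Subgroup G} {x : G} (h : x ∈ typeA0 M) : x ∈ M := by
  rcases h with h | ⟨-, W₁, U, W₂, hP, m, hm, w, hw, -, -, rfl⟩
  · exact typeA_le h
  · have h1 : W₁ ⊔ W₂ ≤ M := sup_le hP.W₁_compl.2.1 ((hP.W₂_le.trans inf_le_left).trans
      (H29.FitHall.fittingHallOf_le M))
    exact mul_mem (mul_mem hm (h1 hw)) (inv_mem hm)

theorem typeA1_subset {M : Subgroup G} (h : fittingHallOf M ≤ ⁅M, M⁆) (hI : IsOfTypeI M → typeCore M ≤ fittingHallOf M)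
    {x : G} (hx : x ∈ typeA1 M) :
    x ∈ typeA M := by
  have hx1 : x ≠ 1 := hx.2
  have hxc : x ∈ typeCore M := hx.1
  unfold typeA
  split_ifs with h1
  · exact ⟨typeCore_le M hxc, hx1, x, hI h1 hxc, hx1, rfl⟩
  · exact ⟨typeCore_le_derived h hxc, hx1, x, hxc, hx1, rfl⟩

theorem typeCore_le_of_typeI [Finite G] {M : Subgroup G} (h : IsOfTypeI M) : typeCore M ≤ fittingHallOf M := by
  unfold typeCore
  split_ifs with h1
  · exfalso
    rcases h1 with ⟨W₁, U, W₂, hP, -⟩ | ⟨W₁, U, W₂, hP, -⟩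
    · exact H4.PF1317.not_typeI hP h
    · exact H4.PF1317.not_typeI hP h
  · exact le_rfl

theorem typeA1_subset' [Finite G] {M : Subgroup G} (h : fittingHallOf M ≤ ⁅M, M⁆) {x : G} (hx : x ∈ typeA1 M) :
    x ∈ typeA M := typeA1_subset h (fun hI => typeCore_le_of_typeI hI) hx

theorem conj_typeA1 {M : Subgroup G} {m x : G} (hm : m ∈ M) (hx : x ∈ typeA1 M) : m * x * m⁻¹ ∈ typeA1 M := by
  have := (H4.TypeConj.mem_typeA1_cj (g := m) (M := M)).mpr hx
  rwa [cj_eq_self_of_mem hm] at this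

theorem conj_typeA {M : Subgroup G} {m x : G} (hm : m ∈ M) (hx : x ∈ typeA M) : m * x * m⁻¹ ∈ typeA M := by
  have := (H4.TypeConj.mem_typeA_cj (g := m) (M := M)).mpr hx
  rwa [cj_eq_self_of_mem hm] at this

theorem conj_typeA0 {M : Subgroup G} {m x : G} (hm : m ∈ M) (hx : x ∈ typeA0 M) : m * x * m⁻¹ ∈ typeA0 M := by
  have := (H4.TypeConj.mem_typeA0_cj (g := m) (M := M)).mpr hx
  rwa [cj_eq_self_of_mem hm] at this

/-- an invariant nonempty set of nonidentity elements of a maximal subgroup has it as normalizer -/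
theorem normalizer_eq [Finite G] (hG : IsMinSimpleOddOrder G) {M : Subgroup G} (hM : IsCoatom M) {A : Set G}
    (hAM : ∀ x ∈ A, x ∈ M) (h1 : (1 : G) ∉ A) (hne : A.Nonempty) (hinv : ∀ m ∈ M, ∀ x ∈ A, m * x * m⁻¹ ∈ A) :
    normalizer A = M := by
  have hle : M ≤ normalizer A := by
    intro m hm
    rw [Subgroup.mem_set_normalizer_iff]
    intro x
    refine ⟨fun hx => hinv m hm x hx, fun hx => ?_⟩
    have := hinv m⁻¹ (inv_mem hm) _ hx
    have h2 : m⁻¹ * (m * x * m⁻¹) * m⁻¹⁻¹ = x := by group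
    rwa [h2] at this
  refine H28.MinSimple.le_of_coatom_of_le_normalizer hM hle fun htop => ?_
  have h2 := Subgroup.normalizer_le_normalizer_closure A
  rw [htop, top_le_iff] at h2
  refine H28.MinSimple.normalizer_ne_top hG (X := closure A) ?_ ?_ h2
  · obtain ⟨x, hx⟩ := hne
    intro h
    rw [Subgroup.closure_eq_bot_iff] at h
    exact h1 ((h hx) ▸ hx)
  · intro h
    apply hM.1
    rw [eq_top_iff, ← h, Subgroup.closure_le]
    exact hAM

namespace Max

variable [Finite G] {M : Subgroup G} (h : Max M)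

include h

theorem exists_typeA1 : (typeA1 M).Nonempty := by
  obtain ⟨⟨z, hz⟩, hz1⟩ := Subgroup.ne_bot_iff_exists_ne_one.mp h.F_ne
  exact ⟨z, fitting_le_typeCore h.F_le hz, fun hh => hz1 (Subtype.ext hh)⟩

theorem typeA1_sub {x : G} (hx : x ∈ typeA1 M) : x ∈ typeA M := typeA1_subset' h.F_le hx

/-- everything for a set between `A₁(M)` and a set `X` as in S1391 -/
theorem dade_aux {A X : Set G} (hAX : A ⊆ X) (hX : Fact91 M X) (hAM : ∀ x ∈ A, x ∈ M)
    (hA1 : ∀ x ∈ typeA1 M, x ∈ A) (h1 : (1 : G) ∉ A) (hinv : ∀ m ∈ M, ∀ x ∈ A, m * x * m⁻¹ ∈ A) :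
    normalizer A = M ∧ DadeHypothesis A M (supportR M) := by
  obtain ⟨hX1, hX2, hX3⟩ := hX
  -- description of `R`
  have hR : ∀ a ∈ A, (centralizer ({a} : Set G) ≤ M ∧ supportR M a = ⊥) ∨
      (¬ centralizer ({a} : Set G) ≤ M ∧ ∃ L : Subgroup G, IsCoatom L ∧ centralizer ({a} : Set G) ≤ L ∧
        supportR M a = fittingHallOf L ⊓ centralizer ({a} : Set G)) := by
    intro a ha
    by_cases hc : centralizer ({a} : Set G) ≤ M
    · exact Or.inl ⟨hc, H28.FitHall.supportR_eq_bot hc⟩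
    · obtain ⟨-, L, ⟨hL, hcL⟩, hu⟩ := hX2 a (hAX ha) hc
      exact Or.inr ⟨hc, L, hL, hcL, H28.FitHall.supportR_eq hc hL hcL (fun N hN hN2 => hu N ⟨hN, hN2⟩)⟩
  refine ⟨normalizer_eq h.hG h.coatom hAM h1 ?_ hinv, ?_⟩
  · obtain ⟨x, hx⟩ := h.exists_typeA1
    exact ⟨x, hA1 x hx⟩
  refine ⟨h1, hAM, hinv, fun a ha g hg => hX1 a (hAX ha) g (hAX hg), ?_, ?_, ?_, ?_, ?_⟩
  · intro a ha
    rcases hR a ha with ⟨-, hr⟩ | ⟨-, L, -, -, hr⟩
    · rw [hr]; exact bot_le
    · rw [hr]; exact inf_le_right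
  · intro a ha c hc u hu
    rcases hR a ha with ⟨-, hr⟩ | ⟨hn, L, hL, hcL, hr⟩
    · rw [hr] at hu ⊢
      rw [Subgroup.mem_bot] at hu ⊢
      rw [hu]; group
    · rw [hr] at hu ⊢
      obtain ⟨-, h2, -⟩ := hX3 a (hAX ha) hn L hL hcL
      exact H1.Coprime.conj_mem_of_le_normalizer h2 hc hu
  · intro a ha
    rcases hR a ha with ⟨-, hr⟩ | ⟨hn, L, hL, hcL, hr⟩
    · rw [hr, bot_inf_eq]
    · rw [hr]
      obtain ⟨-, -, h3, -⟩ := hX3 a (hAX ha) hn L hL hcL
      exact h3.2.2.1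
  · intro a ha
    rcases hR a ha with ⟨hn, hr⟩ | ⟨hn, L, hL, hcL, hr⟩
    · rw [hr, bot_sup_eq]
      exact inf_eq_right.mpr hn
    · rw [hr]
      obtain ⟨-, -, h3, -⟩ := hX3 a (hAX ha) hn L hL hcL
      apply le_antisymm (sup_le h3.1 h3.2.1)
      intro c hc
      obtain ⟨x, hx, y, hy, rfl⟩ := h3.2.2.2 c hc
      exact mul_mem (mem_sup_left hx) (mem_sup_right hy)
  · intro a ha b hb
    rcases hR a ha with ⟨hn, hr⟩ | ⟨hn, L, hL, hcL, hr⟩
    · rw [hr, Subgroup.card_bot]; exact Nat.coprime_one_left _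
    · rw [hr]
      obtain ⟨-, -, -, h4, -⟩ := hX3 a (hAX ha) hn L hL hcL
      exact Nat.Coprime.coprime_dvd_left (Subgroup.card_dvd_of_le inf_le_left) (h4 b (hAX hb))

/-- S1537 -/
theorem dade (A : Set G) (hA : A = typeA1 M ∨ A = typeA M ∨ A = typeA0 M) :
    normalizer A = M ∧ DadeHypothesis A M (supportR M) := by
  rcases hA with rfl | rfl | rfl
  · exact h.dade_aux (fun x hx => h.typeA1_sub hx) h.a (fun x hx => typeA_le (h.typeA1_sub hx))
      (fun x hx => hx) (one_not_mem_typeA1 M) (fun m hm x hx => conj_typeA1 hm hx)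
  · exact h.dade_aux (fun x hx => hx) h.a (fun x hx => typeA_le hx)
      (fun x hx => h.typeA1_sub hx) (fun h1 => ne_one_of_mem_typeA h1 rfl) (fun m hm x hx => conj_typeA hm hx)
  · exact h.dade_aux (fun x hx => hx) h.a0 (fun x hx => typeA0_le hx)
      (fun x hx => Or.inl (h.typeA1_sub hx)) (fun h1 => ne_one_of_mem_typeA0 h1 rfl)
      (fun m hm x hx => conj_typeA0 hm hx)

/-- for `M` of type II all centralizers of elements of `A₀(M)` lie in `M` -/
theorem centralizer_le_of_typeII (hII : IsOfTypeII M) {x : G} (hx : x ∈ typeA0 M) :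
    centralizer ({x} : Set G) ≤ M := by
  by_contra hn
  obtain ⟨hx1, -⟩ := h.a0.2.1 x hx hn
  obtain ⟨W₁, U, W₂, hP, hU, -, hTI, -, hNU, -⟩ := hII
  -- `x ∈ F(M)`
  have hxF : x ∈ fittingOf M := by
    have hxc : x ∈ typeCore M := hx1.1
    unfold typeCore at hxc
    split_ifs at hxc with h34
    · exfalso
      rcases h34 with ⟨W₁', U', W₂', hP', -, -, -, -, hN'⟩ | ⟨W₁', U', W₂', hP', -, -, -, -, hN'⟩
      · obtain ⟨g, hg, hgU⟩ := H4.PFPair.exists_conj_U h.hG h.coatom hP hP'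
        rw [← hgU, ← cj_eq_self_of_mem hg, normalizer_cj_le_iff] at hN'
        exact hNU hN'
      · obtain ⟨g, hg, hgU⟩ := H4.PFPair.exists_conj_U h.hG h.coatom hP hP'
        rw [← hgU, ← cj_eq_self_of_mem hg, normalizer_cj_le_iff] at hN'
        exact hNU hN'
    · exact H29.FitHall.fittingHallOf_le_fittingOf M hxc
  have hFne : fittingOf M ≠ ⊥ := by
    intro hb
    apply h.F_ne
    rw [eq_bot_iff, ← hb]
    exact H29.FitHall.fittingHallOf_le_fittingOf M
  have hFtop : fittingOf M ≠ ⊤ := by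
    intro ht
    apply h.coatom.1
    rw [eq_top_iff, ← ht]
    exact H29.FitHall.fittingOf_le M
  have hNF : normalizer (fittingOf M : Set G) = M :=
    H28.MinSimple.normalizer_eq_of_coatom h.hG h.coatom hFne hFtop (H29.FitHall.le_normalizer_fittingOf M)
  apply hn
  intro c hc
  by_contra hcM
  rw [← hNF] at hcM
  refine ne_one_of_mem_typeA0 hx (hTI c hcM x hxF ?_)
  have h1 := Subgroup.mem_centralizer_singleton_iff.mp hc
  rw [h1, mul_inv_cancel_right]
  exact hxF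

/-- S1538 -/
theorem ti_of_typeII (hII : IsOfTypeII M) :
    (Cfsg.IsTISubset (Cfsg.typeA0 M) ∧ Subgroup.normalizer (Cfsg.typeA0 M) = M) ∧ (Cfsg.IsTISubset (Cfsg.typeA M) ∧ Subgroup.normalizer (Cfsg.typeA M) = M) ∧ (Cfsg.IsTISubset (Cfsg.typeA1 M) ∧ Subgroup.normalizer (Cfsg.typeA1 M) = M) := by
  have key : ∀ A : Set G, (∀ x ∈ A, x ∈ typeA0 M) → normalizer A = M → IsTISubset A := by
    intro A hA hN g hg x hx hgx
    exfalso
    rw [hN] at hg
    obtain ⟨m, hm, hmx⟩ := h.a0.1 x (hA x hx) g (hA _ hgx)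
    apply hg
    have h1 : m⁻¹ * g ∈ centralizer ({x} : Set G) := by
      rw [Subgroup.mem_centralizer_singleton_iff]
      calc m⁻¹ * g * x = m⁻¹ * (g * x * g⁻¹) * g := by group
        _ = x * (m⁻¹ * g) := by rw [← hmx]; group
    have h2 := mul_mem hm (h.centralizer_le_of_typeII hII (hA x hx) h1)
    rwa [mul_inv_cancel_left] at h2
  have n0 := (h.dade (typeA0 M) (Or.inr (Or.inr rfl))).1
  have n := (h.dade (typeA M) (Or.inr (Or.inl rfl))).1
  have n1 := (h.dade (typeA1 M) (Or.inl rfl)).1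
  exact ⟨⟨key _ (fun x hx => hx) n0, n0⟩, ⟨key _ (fun x hx => Or.inl hx) n, n⟩,
    ⟨key _ (fun x hx => Or.inl (h.typeA1_sub hx)) n1, n1⟩⟩

end Max

end H4.PF08
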