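import Cfsg.Agent.Lib.H4.PF08
import Cfsg.Agent.Lib.H28.Sigma

/-!
Peterfalvi (8.17)/(8.18): mutual position of the supports of two nonconjugate maximal subgroups (S1539).
-/

set_option autoImplicit false
set_option linter.unusedSectionVars false

open Cfsg Subgroup H28.Cj H28.RelSyl
open H28.RelHall hiding inf_eq_bot_of_coprime
open scoped Pointwise

namespace H4.PF08

universe u

variable {G : Type u} [Group G]

/-- data used from S1389, S1390 and the classification into types -/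
structure Max2 (M : Subgroup G) : Prop extends Max M where
  s : ∀ (p : ℕ), p.Prime → ∀ (P : Sylow p ↥(Cfsg.typeCore M)), (P : Subgroup ↥(Cfsg.typeCore M)) ≠ ⊥ →
        Subgroup.normalizer ((((P : Subgroup ↥(Cfsg.typeCore M)).map (Cfsg.typeCore M).subtype : Subgroup G)) : Set G) ≤ M
  hall : (Nat.card (Cfsg.typeCore M)).Coprime (Cfsg.typeCore M).index
  u : ∀ U : Subgroup G, ((Cfsg.IsOfTypeI M ∧ Cfsg.IsComplIn (Cfsg.fittingHallOf M) U M) ∨
      (Cfsg.IsOfTypeII M ∧ Cfsg.IsComplIn (Cfsg.fittingHallOf M) U ⁅M, M⁆)) →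
      ∀ X : Set G, X ⊆ (U : Set G) \ {1} → X.Nonempty → Cfsg.fittingHallOf M ⊓ Subgroup.centralizer X ≠ ⊥ →
        Subgroup.centralizer X ≤ M ∧ ∀ L : Subgroup G, IsCoatom L → Subgroup.centralizer X ≤ L → L = M
  ty : IsOfTypeI M ∨ IsOfTypeII M ∨ (IsOfTypeIII M ∨ IsOfTypeIV M) ∨ IsOfTypeV M

/-- the classification into types, from S1351, S1352, S1355, S1380-S1383 -/
theorem types {M : Subgroup G} (h51 : ∃ K : Subgroup G, IsCyclic K ∧ ∃ U : Subgroup G, IsSigmaDecomposition M K U)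
    (h55 : Cfsg.sigmaCore M < M)
    (h80 : ∀ K U : Subgroup G, IsSigmaDecomposition M K U → (Cfsg.IsOfTypeI M ↔ (K = ⊥ ∧ U ≠ ⊥)))
    (h81 : ∀ K U : Subgroup G, IsSigmaDecomposition M K U → (Cfsg.IsOfTypeII M ↔ (K ≠ ⊥ ∧ U ≠ ⊥)))
    (h82 : ∀ K U : Subgroup G, IsSigmaDecomposition M K U →
      ((Cfsg.IsOfTypeIII M ∨ Cfsg.IsOfTypeIV M) ↔ (K ≠ ⊥ ∧ U = ⊥ ∧ Cfsg.fittingHallOf M ≠ Cfsg.sigmaCore M)))
    (h83 : ∀ K U : Subgroup G, IsSigmaDecomposition M K U →
      (Cfsg.IsOfTypeV M ↔ (K ≠ ⊥ ∧ U = ⊥ ∧ Cfsg.fittingHallOf M = Cfsg.sigmaCore M))) :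
    IsOfTypeI M ∨ IsOfTypeII M ∨ (IsOfTypeIII M ∨ IsOfTypeIV M) ∨ IsOfTypeV M := by
  obtain ⟨K, -, U, hKU⟩ := h51
  by_cases hK : K = ⊥
  · by_cases hU : U = ⊥
    · exfalso
      apply h55.ne
      apply le_antisymm h55.le
      intro m hm
      obtain ⟨a, ha, b, hb, rfl⟩ := hKU.compl.2.2.2 m hm
      rw [hU, Subgroup.mem_bot] at ha
      rw [hK, bot_sup_eq] at hb
      rw [ha, one_mul]; exact hb
    · exact Or.inl ((h80 K U hKU).mpr ⟨hK, hU⟩)
  · by_cases hU : U = ⊥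
    · by_cases hF : fittingHallOf M = sigmaCore M
      · exact Or.inr (Or.inr (Or.inr ((h83 K U hKU).mpr ⟨hK, hU, hF⟩)))
      · exact Or.inr (Or.inr (Or.inl ((h82 K U hKU).mpr ⟨hK, hU, hF⟩)))
    · exact Or.inr (Or.inl ((h81 K U hKU).mpr ⟨hK, hU⟩))

variable [Finite G]

theorem not_III_IV_of_II (hG : IsMinSimpleOddOrder G) {M : Subgroup G} (hM : IsCoatom M) (hII : IsOfTypeII M) :
    ¬ (IsOfTypeIII M ∨ IsOfTypeIV M) := by
  obtain ⟨W₁, U, W₂, hP, hU, -, hTI, -, hNU, -⟩ := hII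
  rintro (⟨W₁', U', W₂', hP', -, -, -, -, hN'⟩ | ⟨W₁', U', W₂', hP', -, -, -, -, hN'⟩)
  · obtain ⟨g, hg, hgU⟩ := H4.PFPair.exists_conj_U hG hM hP hP'
    rw [← hgU, ← cj_eq_self_of_mem hg, normalizer_cj_le_iff] at hN'
    exact hNU hN'
  · obtain ⟨g, hg, hgU⟩ := H4.PFPair.exists_conj_U hG hM hP hP'
    rw [← hgU, ← cj_eq_self_of_mem hg, normalizer_cj_le_iff] at hN'
    exact hNU hN'

theorem typeCore_eq_of_II (hG : IsMinSimpleOddOrder G) {M : Subgroup G} (hM : IsCoatom M) (hII : IsOfTypeII M) :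
    typeCore M = fittingHallOf M := by
  unfold typeCore
  rw [if_neg (not_III_IV_of_II hG hM hII)]

theorem typeCore_eq_of_I {M : Subgroup G} (hF : fittingHallOf M ≤ ⁅M, M⁆) (hI : IsOfTypeI M) :
    typeCore M = fittingHallOf M :=
  le_antisymm (typeCore_le_of_typeI hI) (fitting_le_typeCore hF)

theorem exists_compl {K M X : Subgroup G} (hs : Group.IsSolvable M) (hKM : K ≤ M)
    (hn : M ≤ normalizer (K : Set G)) (hc : (Nat.card K).Coprime (K.relIndex M)) (hX : X ≤ M)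
    (hcX : (Nat.card K).Coprime (Nat.card X)) :
    ∃ U, X ≤ U ∧ IsComplIn K U M ∧ (Nat.card K).Coprime (Nat.card U) := by
  obtain ⟨E, hE, hXE⟩ := exists_isPiHallOf_ge (π := {r | ¬ r ∣ Nat.card K}) hs (Q := X) (by
    intro r hr hd hd2
    exact hr.one_lt.ne' (Nat.eq_one_of_dvd_coprimes hcX hd2 hd)) hX
  have hEM : E ≤ M := hE.1
  have hcop : (Nat.card K).Coprime (Nat.card E) :=
    Nat.coprime_of_dvd fun r hr hd hd2 => hE.2.1 r hr hd2 hd
  have hKE : K ⊓ E = ⊥ := H28.RelHall.inf_eq_bot_of_coprime hcop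
  have hcardKE : Nat.card ↥(K ⊔ E) = Nat.card K * Nat.card E := by
    have h1 := card_sup_mul_card_inf (hEM.trans hn)
    rw [inf_comm, hKE, Subgroup.card_bot, mul_one, sup_comm] at h1
    rw [h1, mul_comm]
  have hsup : K ⊔ E = M := by
    refine Subgroup.eq_of_le_of_card_ge (sup_le hKM hEM) ?_
    rw [hcardKE]
    have h1 := relIndex_mul_card hEM
    have h2 := relIndex_mul_card hKM
    have h3 : E.relIndex M ∣ Nat.card K := by
      have h4 : (E.relIndex M).Coprime (K.relIndex M) := by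
        refine Nat.coprime_of_dvd fun r hr hd hd2 => ?_
        have h5 : ¬ r ∣ Nat.card K := fun h => hr.one_lt.ne' (Nat.eq_one_of_dvd_coprimes hc h hd2)
        exact hE.2.2 r hr h5 hd
      refine Nat.Coprime.dvd_of_dvd_mul_left h4 ?_
      rw [h2, ← h1]
      exact Dvd.intro _ rfl
    calc Nat.card M = E.relIndex M * Nat.card E := h1.symm
      _ ≤ Nat.card K * Nat.card E := Nat.mul_le_mul_right _ (Nat.le_of_dvd Nat.card_pos h3)
  refine ⟨E, hXE, ⟨hKM, hEM, hKE, ?_⟩, hcop⟩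
  intro m hm
  rw [← hsup] at hm
  have h1 : m ∈ (K : Set G) * (E : Set G) := by
    rw [← Subgroup.coe_mul_of_right_le_normalizer_left K E (hEM.trans hn)]; exact hm
  obtain ⟨a, ha, b, hb, rfl⟩ := Set.mem_mul.mp h1
  exact ⟨a, ha, b, hb, rfl⟩

/-- powers of elements of `A(M)` -/
theorem typeA_zpowers {M : Subgroup G} {x y : G} (hx : x ∈ typeA M) (hy : y ∈ zpowers x) (hy1 : y ≠ 1) :
    y ∈ typeA M := by
  have hc : ∀ z : G, x * z = z * x → y * z = z * y := by
    intro z hz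
    obtain ⟨n, rfl⟩ := hy
    exact (show Commute x z from hz).zpow_left n
  unfold typeA at hx ⊢
  split_ifs at hx ⊢
  · obtain ⟨h1, -, z, hz, hz1, hxz⟩ := hx
    exact ⟨(Subgroup.zpowers_le.mpr h1) hy, hy1, z, hz, hz1, hc z hxz⟩
  · obtain ⟨h1, -, z, hz, hz1, hxz⟩ := hx
    exact ⟨(Subgroup.zpowers_le.mpr h1) hy, hy1, z, hz, hz1, hc z hxz⟩

theorem mem_zpowers_mul {a r : G} (hc : Commute a r) (h : (orderOf a).Coprime (orderOf r)) :
    a ∈ zpowers (a * r) := by
  have h1 : (a * r) ^ orderOf r = a ^ orderOf r := by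
    rw [hc.mul_pow, pow_orderOf_eq_one, mul_one]
  have h2 : a ^ orderOf r ∈ zpowers (a * r) := by rw [← h1]; exact pow_mem (mem_zpowers _) _
  obtain ⟨m, hm⟩ := exists_pow_eq_self_of_coprime (x := a) h.symm
  have h3 := pow_mem h2 m
  rwa [hm] at h3

theorem mem_zpowers_right {a b r : G} (hc : Commute a r) (hb : b ∈ zpowers (a * r))
    (h : (orderOf b).Coprime (orderOf a)) : b ∈ zpowers r := by
  obtain ⟨k, rfl⟩ := hb
  have h1 : ((a * r) ^ k) ^ orderOf a ∈ zpowers r := by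
    have h2 : ((a * r) ^ k) ^ orderOf a = r ^ (k * (orderOf a : ℤ)) := by
      rw [hc.mul_zpow, ((hc.zpow_left k).zpow_right k).mul_pow, ← zpow_natCast, ← zpow_natCast, ← zpow_mul,
        ← zpow_mul, mul_comm k, zpow_mul a, zpow_natCast a, pow_orderOf_eq_one, one_zpow, one_mul]
    rw [h2]
    exact zpow_mem (mem_zpowers _) _
  obtain ⟨m, hm⟩ := exists_pow_eq_self_of_coprime (x := (a * r) ^ k) h.symm
  have h3 := pow_mem h1 m
  rwa [hm] at h3

namespace Max2

theorem sigma_of_dvd {M : Subgroup G} (h : Max2 M) {r : ℕ} (hr : r.Prime) (hd : r ∣ Nat.card (typeCore M)) :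
    r ∈ sigma M := by
  have := Fact.mk hr
  obtain ⟨P⟩ : Nonempty (Sylow r (typeCore M)) := inferInstance
  have hne : (P : Subgroup (typeCore M)) ≠ ⊥ := P.ne_bot_of_dvd_card hd
  have h1 := h.s r hr P hne
  rw [H28.Sigma.mem_sigma_iff]
  refine ⟨hd.trans (Subgroup.card_dvd_of_le (typeCore_le M)), _, (isSyl_map P).trans (typeCore_le M) ?_, h1⟩
  intro hd2
  have h2 : (typeCore M).relIndex M ∣ (typeCore M).index := Subgroup.relIndex_dvd_index_of_le (typeCore_le M)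
  exact hr.one_lt.ne' (Nat.eq_one_of_dvd_coprimes h.hall hd (hd2.trans h2))

variable (h78 : ∀ M N : Subgroup G, IsCoatom M → IsCoatom N → (Cfsg.sigma M ∩ Cfsg.sigma N).Nonempty →
  ∃ g : G, N = M.map (MulAut.conj g).toMonoidHom)

include h78

theorem coprime {S T : Subgroup G} (hS : Max2 S) (hT : Max2 T) (hnc : ∀ g : G, cj g T ≠ S) :
    (Nat.card (typeCore S)).Coprime (Nat.card (typeCore T)) := by
  refine Nat.coprime_of_dvd fun r hr h1 h2 => ?_
  obtain ⟨g, hg⟩ := h78 T S hT.coatom hS.coatom ⟨r, hT.sigma_of_dvd hr h2, hS.sigma_of_dvd hr h1⟩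
  exact hnc g hg.symm

theorem inter {S T : Subgroup G} (hS : Max2 S) (hT : Max2 T) (hnc : ∀ g : G, cj g T ≠ S) {x : G}
    (hx1 : x ∈ typeA1 S) (hx2 : x ∈ typeA T) :
    ¬ centralizer ({x} : Set G) ≤ S ∧ centralizer ({x} : Set G) ≤ T := by
  have hne : x ≠ 1 := hx1.2
  have hcop := coprime h78 hS hT hnc
  have hord : orderOf x ∣ Nat.card (typeCore S) := by
    have := orderOf_dvd_natCard (⟨x, hx1.1⟩ : typeCore S)
    rwa [Subgroup.orderOf_mk] at this
  have hxT : x ∉ typeCore T := by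
    intro h
    apply hne
    rw [← orderOf_eq_one_iff]
    have h2 := orderOf_dvd_natCard (⟨x, h⟩ : typeCore T)
    rw [Subgroup.orderOf_mk] at h2
    exact Nat.eq_one_of_dvd_coprimes hcop hord h2
  have hsol : Group.IsSolvable T := H28.MinSimple.solvable_of_ne_top hT.hG hT.coatom.1
  have hcF : (Nat.card (fittingHallOf T)).Coprime (Nat.card (zpowers x)) := by
    rw [Nat.card_zpowers]
    exact Nat.Coprime.coprime_dvd_left (Subgroup.card_dvd_of_le (fitting_le_typeCore hT.F_le))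
      (Nat.Coprime.coprime_dvd_right hord hcop.symm)
  suffices key : centralizer ({x} : Set G) ≤ T ∧ ∀ L : Subgroup G, IsCoatom L →
      centralizer ({x} : Set G) ≤ L → L = T by
    refine ⟨fun hxS => ?_, key.1⟩
    have := key.2 S hS.coatom hxS
    apply hnc 1
    rw [cj_one, this]
  have hcent : ∀ {y : G}, y ∈ fittingHallOf T → y ≠ 1 → x * y = y * x →
      fittingHallOf T ⊓ centralizer ({x} : Set G) ≠ ⊥ := by
    intro y hy hy1 hc hb
    have : y ∈ fittingHallOf T ⊓ centralizer ({x} : Set G) :=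
      ⟨hy, Subgroup.mem_centralizer_singleton_iff.mpr hc.symm⟩
    rw [hb] at this
    exact hy1 this
  rcases hT.ty with hI | hII | h34 | hV
  · -- type I
    have hx3 := hx2
    unfold typeA at hx3
    rw [if_pos hI] at hx3
    obtain ⟨hxM, -, y, hy, hy1, hc⟩ := hx3
    obtain ⟨U, hXU, hU, -⟩ := exists_compl (X := zpowers x) hsol (H29.FitHall.fittingHallOf_le T)
      (H29.FitHall.le_normalizer_fittingHallOf T) (H29.FitHall.coprime_fittingHallOf T)
      (by rw [zpowers_le]; exact hxM) hcF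
    refine hT.u U (Or.inl ⟨hI, hU⟩) {x} ?_ (Set.singleton_nonempty x) (hcent hy hy1 hc)
    rw [Set.singleton_subset_iff]
    exact ⟨hXU (mem_zpowers x), hne⟩
  · -- type II
    have hnI : ¬ IsOfTypeI T := by
      obtain ⟨W₁, U, W₂, hP, -⟩ := hII
      exact H4.PF1317.not_typeI hP
    have hx3 := hx2
    unfold typeA at hx3
    rw [if_neg hnI] at hx3
    obtain ⟨hxM, -, y, hy, hy1, hc⟩ := hx3
    rw [typeCore_eq_of_II hT.hG hT.coatom hII] at hy
    have hle := Subgroup.commutator_le_self T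
    obtain ⟨U, hXU, hU, -⟩ := exists_compl (K := fittingHallOf T) (M := ⁅T, T⁆) (X := zpowers x)
      (H1.Coprime.isSolvable_of_le hle hsol) hT.F_le (hle.trans (H29.FitHall.le_normalizer_fittingHallOf T))
      (Nat.Coprime.coprime_dvd_right ⟨_, (Subgroup.relIndex_mul_relIndex _ _ _ hT.F_le hle).symm⟩
        (H29.FitHall.coprime_fittingHallOf T))
      (by rw [zpowers_le]; exact hxM) hcF
    refine hT.u U (Or.inr ⟨hII, hU⟩) {x} ?_ (Set.singleton_nonempty x) (hcent hy hy1 hc)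
    rw [Set.singleton_subset_iff]
    exact ⟨hXU (mem_zpowers x), hne⟩
  · exfalso
    have hnI : ¬ IsOfTypeI T := by
      rcases h34 with ⟨W₁, U, W₂, hP, -⟩ | ⟨W₁, U, W₂, hP, -⟩
      · exact H4.PF1317.not_typeI hP
      · exact H4.PF1317.not_typeI hP
    have hx3 := hx2
    unfold typeA at hx3
    rw [if_neg hnI] at hx3
    apply hxT
    unfold typeCore
    rw [if_pos h34]
    exact hx3.1
  · exfalso
    obtain ⟨W₁, U, W₂, hP, hU, -⟩ := hV
    have hx3 := hx2
    unfold typeA at hx3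
    rw [if_neg (H4.PF1317.not_typeI hP)] at hx3
    apply hxT
    apply fitting_le_typeCore hT.F_le
    obtain ⟨a, ha, b, hb, hab⟩ := hP.U_compl.2.2.2 x hx3.1
    rw [hU, Subgroup.mem_bot] at hb
    rw [hab, hb, mul_one]; exact ha

theorem supports_iff {S T : Subgroup G} (hS : Max2 S) (hT : Max2 T) (hnc : ∀ g : G, cj g T ≠ S) :
    Supports T S ↔ (typeA1 S ∩ typeA T).Nonempty := by
  constructor
  · rintro ⟨-, x, hx, hn, hle⟩
    have h1 := hS.a0.2.1 x hx hn
    have h2 := hS.a0.2.2 x hx hn T hT.coatom hle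
    exact ⟨x, h1.1, h2.2.2.2.2.1.1⟩
  · rintro ⟨x, hx1, hx2⟩
    obtain ⟨h1, h2⟩ := inter h78 hS hT hnc hx1 hx2
    exact ⟨hT.coatom, x, Or.inl (hS.typeA1_sub hx1), h1, h2⟩

/-- S1539 -/
theorem main (hall : ∀ M : Subgroup G, IsCoatom M → Max2 M) {S T : Subgroup G} (hS : IsCoatom S)
    (hT : IsCoatom T) (hnc : ∀ g : G, cj g T ≠ S) :
    (Cfsg.Supports T S ↔ (Cfsg.typeA1 S ∩ Cfsg.typeA T).Nonempty) ∧ (∀ x ∈ Cfsg.typeA1 S ∩ Cfsg.typeA T, ¬ Subgroup.centralizer ({x} : Set G) ≤ S ∧ Subgroup.centralizer ({x} : Set G) ≤ T) ∧ ((∃ g : G, Cfsg.Supports (T.map (MulAut.conj g).toMonoidHom) S) ↔ (Cfsg.tildeOf S (Cfsg.typeA1 S) ∩ Cfsg.tildeOf T (Cfsg.typeA T)).Nonempty) ∧ (Cfsg.tildeOf S (Cfsg.typeA1 S) ∩ Cfsg.tildeOf T (Cfsg.typeA T) = ∅ ∨ Cfsg.tildeOf T (Cfsg.typeA1 T) ∩ Cfsg.tildeOf S (Cfsg.typeA S) = ∅) := by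
  have key : ∀ {S T : Subgroup G}, IsCoatom S → IsCoatom T → (∀ g : G, cj g T ≠ S) →
      ((∃ g : G, Cfsg.Supports (T.map (MulAut.conj g).toMonoidHom) S) ↔
        (Cfsg.tildeOf S (Cfsg.typeA1 S) ∩ Cfsg.tildeOf T (Cfsg.typeA T)).Nonempty) := by
    intro S T hS hT hnc
    have hSM := hall S hS
    have hnc' : ∀ y g : G, cj g (cj y T) ≠ S := fun y g => by rw [cj_cj]; exact hnc _
    have hTM' : ∀ y : G, Max2 (cj y T) := fun y => hall _ (isCoatom_cj.mpr hT)
    constructor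
    · rintro ⟨g, hg⟩
      obtain ⟨x, hx1, hx2⟩ := (supports_iff h78 hSM (hTM' g) (hnc' g)).mp hg
      refine ⟨x, ⟨x, hx1, 1, one_mem _, 1, by group⟩, ?_⟩
      refine ⟨g⁻¹ * x * g, ?_, 1, one_mem _, g, by group⟩
      rw [← H4.TypeConj.mem_typeA_cj (g := g)]
      have : g * (g⁻¹ * x * g) * g⁻¹ = x := by group
      rwa [this]
    · rintro ⟨z, ⟨a, ha, r, hr, y₁, rfl⟩, ⟨b, hb, s, hs, y₂, hz⟩⟩
      -- move everything to `a r = b' s'`
      set y := y₁⁻¹ * y₂ with hy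
      have hz' : a * r = (y * b * y⁻¹) * (y * s * y⁻¹) := by
        have : a * r = y₁⁻¹ * (y₁ * (a * r) * y₁⁻¹) * y₁ := by group
        rw [this, hz, hy]; group
      set T' := cj y T with hT'
      have hb' : y * b * y⁻¹ ∈ typeA T' := H4.TypeConj.mem_typeA_cj.mpr hb
      have hs' : y * s * y⁻¹ ∈ supportR T' (y * b * y⁻¹) := by
        rw [hT', H28.FitHall.supportR_cj]
        exact conj_mem_cj.mpr hs
      generalize y * b * y⁻¹ = b' at hb' hs' hz'
      generalize y * s * y⁻¹ = s' at hs' hz'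
      have hT'M : Max2 T' := hTM' y
      have DS := (hSM.dade (typeA S) (Or.inr (Or.inl rfl))).2
      have DT := (hT'M.dade (typeA T') (Or.inr (Or.inl rfl))).2
      have haA : a ∈ typeA S := hSM.typeA1_sub ha
      have ha1 : a ≠ 1 := ha.2
      have hcar : Commute a r :=
        (Subgroup.mem_centralizer_singleton_iff.mp (DS.le_centralizer a haA hr)).symm
      have hcop : ∀ {M : Subgroup G} {c t : G}, DadeHypothesis (typeA M) M (supportR M) → c ∈ typeA M →
          t ∈ supportR M c → (orderOf c).Coprime (orderOf t) := by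
        intro M c t D hc ht
        have h1 := D.coprime c hc c hc
        have h2 : orderOf t ∣ Nat.card (supportR M c) := by
          have := orderOf_dvd_natCard (⟨t, ht⟩ : supportR M c)
          rwa [Subgroup.orderOf_mk] at this
        have h3 : orderOf c ∣ Nat.card ↥(M ⊓ centralizer ({c} : Set G)) := by
          have := orderOf_dvd_natCard (⟨c, Subgroup.mem_inf.mpr ⟨D.subset hc,
            Subgroup.mem_centralizer_singleton_iff.mpr rfl⟩⟩ : ↥(M ⊓ centralizer ({c} : Set G)))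
          rwa [Subgroup.orderOf_mk] at this
        exact (Nat.Coprime.coprime_dvd_left h2 (Nat.Coprime.coprime_dvd_right h3 h1)).symm
      have hcop1 := hcop DS haA hr
      have haz : a ∈ zpowers (a * r) := mem_zpowers_mul hcar hcop1
      by_cases hs1 : s' = 1
      · -- `a` is a power of `b'`
        rw [hs1, mul_one] at hz'
        rw [hz'] at haz
        have h1 := typeA_zpowers hb' haz ha1
        exact ⟨y, (supports_iff h78 hSM hT'M (hnc' y)).mpr ⟨a, ha, h1⟩⟩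
      · -- `b' ∈ A₁(T')`
        have hbn : ¬ centralizer ({b'} : Set G) ≤ T' := by
          intro hle
          rw [H28.FitHall.supportR_eq_bot hle, Subgroup.mem_bot] at hs'
          exact hs1 hs'
        have hb1 : b' ∈ typeA1 T' := (hT'M.a.2.1 b' hb' hbn).1
        have hcbs : Commute b' s' :=
          (Subgroup.mem_centralizer_singleton_iff.mp (DT.le_centralizer b' hb' hs')).symm
        have hcop2 := hcop DT hb' hs'
        have hbz : b' ∈ zpowers (a * r) := by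
          rw [hz']; exact mem_zpowers_mul hcbs hcop2
        have hcab : (orderOf b').Coprime (orderOf a) := by
          have h1 := coprime h78 hSM hT'M (hnc' y)
          have h2 := orderOf_dvd_natCard (⟨b', hb1.1⟩ : typeCore T')
          have h3 := orderOf_dvd_natCard (⟨a, ha.1⟩ : typeCore S)
          rw [Subgroup.orderOf_mk] at h2 h3
          exact Nat.Coprime.coprime_dvd_left h2 (Nat.Coprime.coprime_dvd_right h3 h1.symm)
        have hbr : b' ∈ zpowers r := mem_zpowers_right hcar hbz hcab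
        have hb'1 : b' ≠ 1 := hb1.2
        have han : ¬ centralizer ({a} : Set G) ≤ S := by
          intro hle
          rw [H28.FitHall.supportR_eq_bot hle, Subgroup.mem_bot] at hr
          rw [hr, Subgroup.zpowers_one_eq_bot, Subgroup.mem_bot] at hbr
          exact hb'1 hbr
        obtain ⟨-, L, ⟨hL, hcL⟩, hu⟩ := hSM.a.2.1 a haA han
        rw [H28.FitHall.supportR_eq han hL hcL (fun N hN hN2 => hu N ⟨hN, hN2⟩)] at hr
        have hLM := hall L hL
        have hbL : b' ∈ typeCore L :=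
          fitting_le_typeCore hLM.F_le ((Subgroup.zpowers_le.mpr (Subgroup.mem_inf.mp hr).1) hbr)
        obtain ⟨l, hl, hld⟩ := Nat.exists_prime_and_dvd (n := orderOf b')
          (fun h => hb'1 (orderOf_eq_one_iff.mp h))
        have h2 := orderOf_dvd_natCard (⟨b', hb1.1⟩ : typeCore T')
        have h3 := orderOf_dvd_natCard (⟨b', hbL⟩ : typeCore L)
        rw [Subgroup.orderOf_mk] at h2 h3
        obtain ⟨g, hg⟩ := h78 T' L hT'M.coatom hL
          ⟨l, hT'M.sigma_of_dvd hl (hld.trans h2), hLM.sigma_of_dvd hl (hld.trans h3)⟩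
        refine ⟨g * y, ?_⟩
        have hLeq : L = cj (g * y) T := by rw [← cj_cj]; exact hg
        change Supports (cj (g * y) T) S
        rw [← hLeq]
        exact ⟨hL, a, Or.inl haA, han, hcL⟩
  refine ⟨supports_iff h78 (hall S hS) (hall T hT) hnc, fun x hx => inter h78 (hall S hS) (hall T hT) hnc hx.1 hx.2,
    key hS hT hnc, ?_⟩
  by_contra hcon
  push Not at hcon
  have hnc2 : ∀ g : G, cj g S ≠ T := by
    intro g hg
    apply hnc g⁻¹
    rw [← hg, cj_inv_cj]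
  obtain ⟨g₁, -, x₁, hx₁, hn₁, hle₁⟩ := (key hS hT hnc).mpr hcon.1
  obtain ⟨g₂, -, x₂, hx₂, hn₂, hle₂⟩ := (key hT hS hnc2).mpr hcon.2
  have hSM := hall S hS
  have hTM := hall T hT
  have hL1 : IsCoatom (cj g₁ T) := isCoatom_cj.mpr hT
  have hL2 : IsCoatom (cj g₂ S) := isCoatom_cj.mpr hS
  obtain ⟨-, -, -, hcop, -, hty, -⟩ := hSM.a0.2.2 x₁ hx₁ hn₁ _ hL1 hle₁
  obtain ⟨-, -, -, -, hxA, -, -⟩ := hTM.a0.2.2 x₂ hx₂ hn₂ _ hL2 hle₂
  have hx₂1 := (hTM.a0.2.1 x₂ hx₂ hn₂).1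
  have hcore : typeCore T = fittingHallOf T := by
    rcases hty with h | h
    · exact typeCore_eq_of_I hTM.F_le (H4.TypeConj.isOfTypeI_cj.mp h)
    · exact typeCore_eq_of_II hTM.hG hT (H4.TypeConj.isOfTypeII_cj.mp h)
  have hxS : g₂⁻¹ * x₂ * g₂ ∈ typeA S := by
    rw [← H4.TypeConj.mem_typeA_cj (g := g₂)]
    have : g₂ * (g₂⁻¹ * x₂ * g₂) * g₂⁻¹ = x₂ := by group
    rw [this]; exact hxA.1
  have h1 := hcop _ (Or.inl hxS)
  rw [Lead.TypePMap.fittingHallOf_map, Lead.TypePMap.card_map] at h1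
  apply hx₂1.2
  have h2 : orderOf x₂ ∣ Nat.card (fittingHallOf T) := by
    have h3 : x₂ ∈ fittingHallOf T := hcore ▸ hx₂1.1
    have := orderOf_dvd_natCard (⟨x₂, h3⟩ : fittingHallOf T)
    rwa [Subgroup.orderOf_mk] at this
  have h3 : orderOf x₂ ∣ Nat.card ↥(S ⊓ centralizer ({g₂⁻¹ * x₂ * g₂} : Set G)) := by
    have h4 : orderOf x₂ = orderOf (g₂⁻¹ * x₂ * g₂) := by
      have := MulEquiv.orderOf_eq (MulAut.conj g₂⁻¹) x₂
      rw [MulAut.conj_apply, inv_inv] at this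
      exact this.symm
    rw [h4]
    have := orderOf_dvd_natCard (⟨g₂⁻¹ * x₂ * g₂, Subgroup.mem_inf.mpr ⟨typeA_le hxS,
      Subgroup.mem_centralizer_singleton_iff.mpr rfl⟩⟩ : ↥(S ⊓ centralizer ({g₂⁻¹ * x₂ * g₂} : Set G)))
    rwa [Subgroup.orderOf_mk] at this
  rw [Set.mem_singleton_iff, ← orderOf_eq_one_iff]
  exact Nat.eq_one_of_dvd_coprimes h1 h2 h3

end Max2

end H4.PF08
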