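import Cfsg.Agent.Lib.H4.PFPair
import Cfsg.Agent.Lib.H31.PDTypeW
import Cfsg.Agent.Lib.H4.FpfOdd
import Cfsg.Agent.Lib.H73.Nilp

/-!
Peterfalvi (13.17): the maximal subgroup containing `N_G(U)` when `S` is of type II.
-/

set_option autoImplicit false
set_option linter.unusedSectionVars false
set_option linter.style.haveILetI false

open Cfsg Subgroup H28.Cj H28.RelSyl H60.TypeIWeak
open H28.RelHall hiding inf_eq_bot_of_coprime
open scoped Pointwise

namespace H4.PF1317W

open H4.PFPair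

universe u

variable {G : Type u} [Group G] [Finite G]

/-- a maximal subgroup with type P data is not of weak Type I -/
theorem not_typeI {M W₁ U W₂ : Subgroup G} (h : IsTypePWith M W₁ U W₂) : ¬ IsOfTypeI' M :=
  H31.PD.not_typeI' h

/-- the part of S1385 that is used: maximal subgroups not of Type I form at most two classes -/
def TwoClasses (G : Type u) [Group G] : Prop :=
  (∀ M : Subgroup G, IsCoatom M → IsOfTypeI' M) ∨ ∃ S' T' : Subgroup G, ∀ M : Subgroup G, IsCoatom M →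
    IsOfTypeI' M ∨ ∃ g : G, M = S'.map (MulAut.conj g).toMonoidHom ∨ M = T'.map (MulAut.conj g).toMonoidHom

theorem not_conj {S T W₁ W₂ U V : Subgroup G} (hp : Pair S T W₁ W₂ U V) (g : G) : T ≠ cj g S := by
  intro h
  have h1 := Lead.TypePMap.isTypePWith_map (MulAut.conj g) hp.hSP
  have h2 : IsTypePWith T (cj g W₁) (cj g U) (cj g W₂) := by rw [h]; exact h1
  have h3 := card_W₁_eq h2 hp.hTP
  rw [card_cj] at h3
  exact Lead.OddAssembly.card_ne hp.hSP.selfNormalizing h3

theorem classes {S T W₁ W₂ U V : Subgroup G} (hp : Pair S T W₁ W₂ U V) (h : TwoClasses G) :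
    ∀ M : Subgroup G, IsCoatom M → IsOfTypeI' M ∨ ∃ g : G, M = cj g S ∨ M = cj g T := by
  intro M hM
  rcases h with h | ⟨S', T', h⟩
  · exact Or.inl (h M hM)
  have hS := (h S hp.hS).resolve_left (not_typeI hp.hSP)
  have hT := (h T hp.hT).resolve_left (not_typeI hp.hTP)
  rcases h M hM with h1 | ⟨g, hg⟩
  · exact Or.inl h1
  right
  have inv : ∀ {A B : Subgroup G} {a : G}, A = cj a B → B = cj a⁻¹ A := by
    intro A B a hh; rw [hh, cj_inv_cj]
  obtain ⟨a, ha⟩ := hS
  obtain ⟨b, hb⟩ := hT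
  rcases ha with ha | ha <;> rcases hb with hb | hb
  · exact absurd (show T = cj (b * a⁻¹) S by rw [← cj_cj, ← inv ha]; exact hb) (not_conj hp _)
  · rcases hg with hg | hg
    · exact ⟨g * a⁻¹, Or.inl (by rw [← cj_cj, ← inv ha]; exact hg)⟩
    · exact ⟨g * b⁻¹, Or.inr (by rw [← cj_cj, ← inv hb]; exact hg)⟩
  · rcases hg with hg | hg
    · exact ⟨g * b⁻¹, Or.inr (by rw [← cj_cj, ← inv hb]; exact hg)⟩
    · exact ⟨g * a⁻¹, Or.inl (by rw [← cj_cj, ← inv ha]; exact hg)⟩
  · exact absurd (show T = cj (b * a⁻¹) S by rw [← cj_cj, ← inv ha]; exact hb) (not_conj hp _)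

/-- a normal Hall subgroup contains the subgroups whose order involves only its primes -/
theorem le_of_hall {H L X : Subgroup G} (hHL : H ≤ L) (hn : L ≤ normalizer (H : Set G))
    (hc : (Nat.card H).Coprime (H.relIndex L)) (hX : X ≤ L)
    (h : ∀ r : ℕ, r.Prime → r ∣ Nat.card X → r ∣ Nat.card H) : X ≤ H := by
  have hK : IsPiHallOf {r | r ∣ Nat.card H} H L := by
    refine ⟨hHL, fun r _ hd => hd, fun r hr hd hd2 => ?_⟩
    exact hr.one_lt.ne' (Nat.eq_one_of_dvd_coprimes hc hd hd2)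
  exact le_of_normal_hall hK hn (fun r hr hd => h r hr hd) hX

/-- the maximal subgroup containing `N_G(U)` is of Type I -/
theorem typeI {S T W₁ W₂ U V L : Subgroup G} (hp : Pair S T W₁ W₂ U V) (F : Facts S W₁ W₂ U)
    (F' : Facts T W₂ W₁ V)
    (hcl : TwoClasses G) (hSII : IsOfTypeII S) (hL : IsCoatom L) (hNU : normalizer (U : Set G) ≤ L) :
    IsOfTypeI' L := by
  have hUL : U ≤ L := Subgroup.le_normalizer.trans hNU
  have hWL : W₁ ≤ L := F.W₁_le_norm_U.trans hNU
  rcases classes hp hcl L hL with h | ⟨g, rfl | rfl⟩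
  · exact h
  · exfalso
    have hLs : Group.IsSolvable (cj g S) := H28.MinSimple.solvable_of_ne_top hp.hG hL.1
    have key : ∀ {X : Subgroup G}, X ≤ cj g S → Nat.card X = Nat.card U →
        IsPiHallOf {r | r ∣ Nat.card U} X (cj g S) := by
      intro X hX hXc
      refine ⟨hX, fun r _ hd => by rw [hXc] at hd; exact hd, fun r hr hd hd2 => ?_⟩
      have h1 := relIndex_mul_card hX
      rw [card_cj, hXc, F.card_S] at h1
      have h2 : X.relIndex (cj g S) = Nat.card (fittingHallOf S) * Nat.card W₁ := by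
        apply Nat.eq_of_mul_eq_mul_right (Nat.card_pos (α := U))
        rw [h1]; ring
      rw [h2] at hd2
      rcases (hr.dvd_mul).mp hd2 with h3 | h3
      · exact hr.one_lt.ne' (Nat.eq_one_of_dvd_coprimes F.cop_PU h3 hd)
      · exact hr.one_lt.ne' (Nat.eq_one_of_dvd_coprimes F.cop_UW hd h3)
    obtain ⟨h, hh, hhU⟩ := exists_conj_eq hLs (key (X := cj g U) (cj_le_cj.mpr F.U_le) (card_cj g U))
      (key hUL rfl)
    rw [cj_cj] at hhU
    have h1 : h * g ∈ normalizer (U : Set G) := by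
      rw [mem_normalizer_iff_cj]; exact hhU.symm
    have h2 : g ∈ cj g S := by
      have h3 := mul_mem (inv_mem hh) (hNU h1)
      rwa [inv_mul_cancel_left] at h3
    rw [mem_cj] at h2
    have h3 : g ∈ S := by
      have : g⁻¹ * g * g = g := by group
      rwa [this] at h2
    rw [cj_eq_self_of_mem h3] at hNU
    exact typeII_normalizer hp.hG hp.hS hp.hSP hSII hNU
  · exfalso
    set Q := fittingHallOf T with hQ
    have hQL : cj g Q ≤ cj g T := cj_le_cj.mpr F'.P_le
    have hQn : cj g T ≤ normalizer ((cj g Q : Subgroup G) : Set G) := by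
      have := Subgroup.map_mono (f := (MulAut.conj g).toMonoidHom) F'.S_le_norm_P
      rwa [← cj_normalizer]
    have hQc : (Nat.card (cj g Q)).Coprime ((cj g Q).relIndex (cj g T)) := by
      rw [card_cj, relIndex_cj]; exact H29.FitHall.coprime_fittingHallOf T
    have hWQ : W₁ ≤ cj g Q := by
      refine le_of_hall hQL hQn hQc hWL fun r hr hd => ?_
      rw [card_cj]
      exact hd.trans (Subgroup.card_dvd_of_le F'.W₂_le_P)
    have hcop : (Nat.card U).Coprime (Nat.card (cj g Q)) := by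
      rw [card_cj, F'.P_card]
      exact Nat.Coprime.pow_right _ F.cop_UW
    have hbot : U ⊓ cj g Q = ⊥ := H28.RelHall.inf_eq_bot_of_coprime hcop
    apply F.U_ne
    rw [eq_bot_iff]
    intro x hx
    obtain ⟨w, hw, hw1⟩ := F.exists_W₁
    refine Subgroup.mem_bot.mpr (F.fpf w hw hw1 x hx ?_)
    have h1 : w * x * w⁻¹ * x⁻¹ ∈ U ⊓ cj g Q := by
      refine Subgroup.mem_inf.mpr ⟨mul_mem (H1.Coprime.conj_mem_of_le_normalizer F.W₁_le_norm_U hw hx)
        (inv_mem hx), ?_⟩
      have h2 := H1.Coprime.conj_mem_of_le_normalizer hQn (hUL hx) (inv_mem (hWQ hw))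
      have h3 : w * x * w⁻¹ * x⁻¹ = w * (x * w⁻¹ * x⁻¹) := by group
      rw [h3]
      exact mul_mem (hWQ hw) h2
    rw [hbot, Subgroup.mem_bot] at h1
    calc w * x = (w * x * w⁻¹ * x⁻¹) * (x * w) := by group
      _ = x * w := by rw [h1, one_mul]

/-- (13.17), all the group theory -/
theorem support {S T W₁ W₂ U V L : Subgroup G} (F : Facts S W₁ W₂ U)
    (F' : Facts T W₂ W₁ V) (hL : IsCoatom L) (hNU : normalizer (U : Set G) ≤ L) (hI : IsOfTypeI' L)
    (h40 : ∀ x ∈ fittingHallOf L, x ≠ 1 → L ⊓ centralizer ({x} : Set G) ≤ fittingHallOf L) :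
    (∀ x ∈ Cfsg.fittingHallOf L, x ≠ 1 → L ⊓ Subgroup.centralizer ({x} : Set G) ≤ Cfsg.fittingHallOf L) ∧ U ≤ Cfsg.fittingHallOf L ∧ ((Cfsg.fittingHallOf L ⊓ W₁ = ⊥ ∧ Cfsg.fittingHallOf L ⊔ W₁ = L) ∨ ∃ y ∈ Cfsg.fittingHallOf T, Cfsg.fittingHallOf L ⊓ (W₁ ⊔ W₂.map (MulAut.conj y).toMonoidHom) = ⊥ ∧ Cfsg.fittingHallOf L ⊔ (W₁ ⊔ W₂.map (MulAut.conj y).toMonoidHom) = L) := by
  refine ⟨h40, ?_⟩
  set H := fittingHallOf L with hH
  have hUL : U ≤ L := Subgroup.le_normalizer.trans hNU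
  have hWL : W₁ ≤ L := F.W₁_le_norm_U.trans hNU
  have hLs : Group.IsSolvable L := H28.MinSimple.solvable_of_ne_top F.hG hL.1
  have hHL : H ≤ L := H29.FitHall.fittingHallOf_le L
  have hHn : L ≤ normalizer (H : Set G) := H29.FitHall.le_normalizer_fittingHallOf L
  have hHc : (Nat.card H).Coprime (H.relIndex L) := H29.FitHall.coprime_fittingHallOf L
  have hHne : H ≠ ⊥ := by
    intro h
    apply hI.1.2.2.1
    rw [hH, fittingHallOf, Subgroup.map_eq_bot_iff, Subgroup.ker_subtype, le_bot_iff] at h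
    exact h
  -- commutators of `W₁` and `U`
  have hcom : ∀ {X : Subgroup G}, U ⊓ X = ⊥ → L ≤ normalizer (X : Set G) → ¬ W₁ ≤ X := by
    intro X hbot hn hWX
    apply F.U_ne
    rw [eq_bot_iff]
    intro x hx
    obtain ⟨w, hw, hw1⟩ := F.exists_W₁
    refine Subgroup.mem_bot.mpr (F.fpf w hw hw1 x hx ?_)
    have h1 : w * x * w⁻¹ * x⁻¹ ∈ U ⊓ X := by
      refine Subgroup.mem_inf.mpr ⟨mul_mem (H1.Coprime.conj_mem_of_le_normalizer F.W₁_le_norm_U hw hx)
        (inv_mem hx), ?_⟩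
      have h2 := H1.Coprime.conj_mem_of_le_normalizer hn (hUL hx) (inv_mem (hWX hw))
      have h3 : w * x * w⁻¹ * x⁻¹ = w * (x * w⁻¹ * x⁻¹) := by group
      rw [h3]
      exact mul_mem (hWX hw) h2
    rw [hbot, Subgroup.mem_bot] at h1
    calc w * x = (w * x * w⁻¹ * x⁻¹) * (x * w) := by group
      _ = x * w := by rw [h1, one_mul]
  -- elements outside `H` act without fixed points
  have hfree : ∀ {e : G}, e ∈ L → e ∉ H → H ⊓ centralizer ({e} : Set G) = ⊥ := by
    intro e he heH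
    rw [eq_bot_iff]
    rintro h ⟨hh, hc⟩
    by_contra hne
    exact heH (h40 h hh hne (Subgroup.mem_inf.mpr ⟨he, Subgroup.mem_centralizer_singleton_iff.mpr
      (Subgroup.mem_centralizer_singleton_iff.mp hc).symm⟩))
  have hW₁H' : ∀ {X : Subgroup G}, ¬ W₁ ≤ X → W₁ ⊓ X = ⊥ := by
    intro X hX
    rw [eq_bot_iff]
    rintro w ⟨hw, hwX⟩
    by_contra hw1
    apply hX
    rw [← Facts.zpowers_eq_of_prime F.q_prime hw hw1, zpowers_le]
    exact hwX
  have hWqH : ¬ W₁ ≤ H → (Nat.card H).Coprime (Nat.card W₁) := by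
    intro hX
    refine Nat.Coprime.symm ((Nat.Prime.coprime_iff_not_dvd F.q_prime).mpr fun hd => hX ?_)
    refine le_of_hall hHL hHn hHc hWL fun r hr hrd => ?_
    rw [(Nat.prime_dvd_prime_iff_eq hr F.q_prime).mp hrd]
    exact hd
  -- `U ≤ H`
  have hUH : U ≤ H := by
    by_contra hUH
    have hbot : U ⊓ H = ⊥ := by
      rw [eq_bot_iff]
      rintro x ⟨hx, hxH⟩
      by_contra hx1
      apply hUH
      intro y hy
      exact h40 x hxH hx1 (Subgroup.mem_inf.mpr ⟨hUL hy, Subgroup.mem_centralizer_singleton_iff.mpr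
        (F.U_comm y hy x hx)⟩)
    have hW : ¬ W₁ ≤ H := hcom hbot hHn
    have hcop1 : (Nat.card H).Coprime (Nat.card U) := by
      refine Nat.coprime_of_dvd fun r hr hd hd2 => ?_
      have := Fact.mk hr
      obtain ⟨x, hx⟩ := exists_prime_orderOf_dvd_card' (G := U) r hd2
      have hxo : orderOf (x : G) = r := by rw [Subgroup.orderOf_coe]; exact hx
      have hxH : zpowers (x : G) ≤ H := by
        refine le_of_hall hHL hHn hHc (by rw [zpowers_le]; exact hUL x.2) fun s hs hsd => ?_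
        rw [Nat.card_zpowers, hxo] at hsd
        rw [(Nat.prime_dvd_prime_iff_eq hs hr).mp hsd]
        exact hd
      have h1 : (x : G) ∈ U ⊓ H := ⟨x.2, hxH (mem_zpowers _)⟩
      rw [hbot, Subgroup.mem_bot] at h1
      rw [h1, orderOf_one] at hxo
      exact hr.one_lt.ne hxo
    have hcop : Nat.Coprime (Nat.card H) (Nat.card ↥(U ⊔ W₁)) := by
      have h1 := card_sup_dvd F.W₁_le_norm_U
      rw [sup_comm] at h1
      refine Nat.Coprime.coprime_dvd_right h1 ?_
      exact (hWqH hW).mul_right hcop1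
    have hform := H83.FrobFix.formula_sub U W₁ H
      (H1.Coprime.isSolvable_of_le hUL hLs)
      (fun e he v hv => H1.Coprime.conj_mem_of_le_normalizer F.W₁_le_norm_U he hv)
      (fun e he he1 v hv h => F.fpf e he he1 v hv h)
      (fun z hz d hd => H1.Coprime.conj_mem_of_le_normalizer ((sup_le hUL hWL).trans hHn) hz hd)
      (H1.Coprime.isSolvable_of_le hHL hLs) hcop
    have e1 : H ⊓ centralizer (W₁ : Set G) = ⊥ := by
      obtain ⟨w, hw, hw1⟩ := F.exists_W₁
      have hwH : w ∉ H := by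
        intro h
        have : w ∈ W₁ ⊓ H := ⟨hw, h⟩
        rw [hW₁H' hW] at this
        exact hw1 this
      rw [eq_bot_iff, ← hfree (hWL hw) hwH]
      exact inf_le_inf_left _ (Subgroup.centralizer_le (Set.singleton_subset_iff.mpr hw))
    have e2 : H ⊓ centralizer (U : Set G) = ⊥ := by
      obtain ⟨⟨x, hx⟩, hx1'⟩ := Subgroup.ne_bot_iff_exists_ne_one.mp F.U_ne
      have hx1 : x ≠ 1 := fun h => hx1' (Subtype.ext h)
      have hxH : x ∉ H := by
        intro h
        have : x ∈ U ⊓ H := ⟨hx, h⟩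
        rw [hbot] at this
        exact hx1 this
      rw [eq_bot_iff, ← hfree (hUL hx) hxH]
      exact inf_le_inf_left _ (Subgroup.centralizer_le (Set.singleton_subset_iff.mpr hx))
    have e3 : H ⊓ centralizer ((U ⊔ W₁ : Subgroup G) : Set G) = ⊥ := by
      rw [eq_bot_iff, ← e2]
      exact inf_le_inf_left _ (Subgroup.centralizer_le (SetLike.coe_subset_coe.mpr le_sup_left))
    rw [e1, e2, e3, Subgroup.card_bot, one_pow, one_mul, mul_one] at hform
    exact hHne (Subgroup.card_eq_one.mp hform)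
  refine ⟨hUH, ?_⟩
  -- `W₁ ∩ H = 1`
  have hW : ¬ W₁ ≤ H := by
    intro hWH
    have hnil : Group.IsNilpotent H := H29.FitHall.isNilpotent_fittingHallOf L
    apply F.U_ne
    rw [eq_bot_iff]
    intro x hx
    obtain ⟨w, hw, hw1⟩ := F.exists_W₁
    refine Subgroup.mem_bot.mpr (F.fpf w hw hw1 x hx ?_)
    have := Fact.mk F.q_prime
    have h1 := H73.Nilp.commute_of_coprime (M := H) (p := Nat.card W₁) (a := ⟨w, hWH hw⟩) (b := ⟨x, hUH hx⟩)
      ⟨1, by
        rw [Subgroup.orderOf_mk, pow_one, ← Nat.card_zpowers, Facts.zpowers_eq_of_prime F.q_prime hw hw1]⟩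
      (by
        rw [Subgroup.orderOf_mk]
        refine Nat.Coprime.coprime_dvd_left ?_ F.cop_UW
        have := orderOf_dvd_natCard (⟨x, hx⟩ : U)
        rwa [Subgroup.orderOf_mk] at this)
    exact congrArg Subtype.val h1
  have hqH := hWqH hW
  -- a complement `E` containing `W₁`
  set π : Set ℕ := {r | ¬ r ∣ Nat.card H} with hπ
  obtain ⟨E, hE, hWE⟩ := exists_isPiHallOf_ge (π := π) hLs (Q := W₁) (by
    intro r hr hd hd2
    exact hr.one_lt.ne' (Nat.eq_one_of_dvd_coprimes hqH hd2 hd)) hWL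
  have hEL : E ≤ L := hE.1
  have hcopHE : (Nat.card H).Coprime (Nat.card E) :=
    Nat.coprime_of_dvd fun r hr hd hd2 => hE.2.1 r hr hd2 hd
  have hHE : H ⊓ E = ⊥ := H28.RelHall.inf_eq_bot_of_coprime hcopHE
  have hcardHE : Nat.card ↥(H ⊔ E) = Nat.card H * Nat.card E := by
    have h1 := card_sup_mul_card_inf (hEL.trans hHn)
    rw [inf_comm, hHE, Subgroup.card_bot, mul_one, sup_comm] at h1
    rw [h1, mul_comm]
  have hsup : H ⊔ E = L := by
    refine Subgroup.eq_of_le_of_card_ge (sup_le hHL hEL) ?_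
    rw [hcardHE]
    have h1 := relIndex_mul_card hEL
    have h2 := relIndex_mul_card hHL
    have h3 : E.relIndex L ∣ Nat.card H := by
      have h4 : (E.relIndex L).Coprime (H.relIndex L) := by
        refine Nat.coprime_of_dvd fun r hr hd hd2 => ?_
        have h5 : ¬ r ∣ Nat.card H := fun h => hr.one_lt.ne' (Nat.eq_one_of_dvd_coprimes hHc h hd2)
        exact hE.2.2 r hr h5 hd
      refine Nat.Coprime.dvd_of_dvd_mul_left h4 ?_
      rw [h2, ← h1]
      exact Dvd.intro _ rfl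
    calc Nat.card L = E.relIndex L * Nat.card E := h1.symm
      _ ≤ Nat.card H * Nat.card E := Nat.mul_le_mul_right _ (Nat.le_of_dvd Nat.card_pos h3)
  have hEfree : ∀ e ∈ E, e ≠ 1 → H ⊓ centralizer ({e} : Set G) = ⊥ := by
    intro e he he1
    refine hfree (hEL he) fun h => he1 ?_
    have : e ∈ H ⊓ E := ⟨h, he⟩
    rwa [hHE, Subgroup.mem_bot] at this
  have hEsol : Group.IsSolvable E := H1.Coprime.isSolvable_of_le hEL hLs
  have hEodd : Odd (Nat.card E) := H28.MinSimple.odd_card F.hG E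
  have hEN : E ≤ normalizer (W₁ : Set G) :=
    H4.FpfOdd.le_normalizer_of_prime E H hHne (hEL.trans hHn) hEfree hEsol hEodd W₁ hWE F.q_prime rfl
  rw [F'.normalizer_W₂] at hEN
  set Q := fittingHallOf T with hQ
  have hWQ : W₁ ≤ Q := F'.W₂_le_P
  -- `E ∩ Q = W₁`
  have hEQ : Q ⊓ E = W₁ := by
    refine le_antisymm ?_ (le_inf hWQ hWE)
    rintro x ⟨hxQ, hxE⟩
    by_contra hxW
    have hx1 : x ≠ 1 := fun h => hxW (h ▸ one_mem _)
    have hxo : orderOf x = Nat.card W₁ := by
      have := Fact.mk F.q_prime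
      exact orderOf_eq_prime (F'.P_ab.2 x hxQ) hx1
    have hdis : zpowers x ⊓ W₁ = ⊥ := by
      rw [eq_bot_iff]
      rintro y ⟨hy, hyW⟩
      by_contra hy1
      apply hxW
      have hz : (Nat.card (zpowers x)).Prime := by rw [Nat.card_zpowers, hxo]; exact F.q_prime
      have h1 := Facts.zpowers_eq_of_prime hz hy hy1
      have h2 : x ∈ zpowers y := by rw [h1]; exact mem_zpowers _
      exact (Subgroup.zpowers_le.mpr hyW) h2
    have hn : zpowers x ≤ normalizer (W₁ : Set G) := by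
      rw [F'.normalizer_W₂, zpowers_le]; exact mem_sup_left hxQ
    have hcard : Nat.card ↥(zpowers x ⊔ W₁) = Nat.card W₁ * Nat.card W₁ := by
      have h1 := card_sup_mul_card_inf hn
      rw [hdis, Subgroup.card_bot, mul_one, Nat.card_zpowers, hxo] at h1
      exact h1
    have hBE : zpowers x ⊔ W₁ ≤ E := sup_le (by rw [zpowers_le]; exact hxE) hWE
    have hcyc := H2.FrobComp.isCyclic_of_card_eq_mul (zpowers x ⊔ W₁) H hHne (hBE.trans (hEL.trans hHn))
      (fun a ha ha1 => hEfree a (hBE ha) ha1) (H1.Coprime.isSolvable_of_le hBE hEsol) F.q_prime F.q_prime hcard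
    have h1 := H1.FrobSyl.eq_of_card_eq_of_le hcyc (X := zpowers x) (Y := W₁) le_sup_left le_sup_right
      (by rw [Nat.card_zpowers, hxo])
    apply hxW
    rw [← h1]; exact mem_zpowers _
  have hWQn : W₂ ≤ normalizer (Q : Set G) := F'.W₁_le_norm_P
  have hEQn : E ≤ normalizer (Q : Set G) := hEN.trans (sup_le Subgroup.le_normalizer hWQn)
  have hcopQ : (Nat.card Q).Coprime (Nat.card W₂) := F'.cop_PW
  have hrel : Q.relIndex E ∣ Nat.card W₂ := by
    have h1 : Q.relIndex (W₂ ⊔ Q) = Nat.card W₂ := by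
      rw [relIndex_sup_eq hWQn, ← Subgroup.inf_relIndex_right, H28.RelHall.inf_eq_bot_of_coprime hcopQ,
        Subgroup.relIndex_bot_left]
    have h2 := relIndex_sup_eq hEQn
    rw [← h2, ← h1]
    have h3 : E ⊔ Q ≤ W₂ ⊔ Q := by
      rw [sup_comm W₂]; exact sup_le hEN le_sup_left
    exact ⟨_, (Subgroup.relIndex_mul_relIndex Q (E ⊔ Q) (W₂ ⊔ Q) le_sup_right h3).symm⟩
  have hcardE : Nat.card E = Nat.card W₁ * Q.relIndex E := by
    have h1 := relIndex_mul_card (H := Q ⊓ E) (K := E) inf_le_right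
    rw [Subgroup.inf_relIndex_right, hEQ] at h1
    rw [← h1, mul_comm]
  rcases (Nat.dvd_prime F.p_prime).mp hrel with hr1 | hrp
  · left
    rw [hr1, mul_one] at hcardE
    have : W₁ = E := Subgroup.eq_of_le_of_card_ge hWE hcardE.le
    rw [this]
    exact ⟨hHE, hsup⟩
  · right
    have hpF := Fact.mk F.p_prime
    obtain ⟨x, hx⟩ := exists_prime_orderOf_dvd_card' (G := E) (Nat.card W₂)
      (by rw [hcardE, hrp]; exact Dvd.intro_left _ rfl)
    have hxo : orderOf (x : G) = Nat.card W₂ := by rw [Subgroup.orderOf_coe]; exact hx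
    have hxE : zpowers (x : G) ≤ E := by rw [zpowers_le]; exact x.2
    have hSyl : IsSyl (Nat.card W₂) W₂ (Q ⊔ W₂) := by
      refine ⟨le_sup_right, IsPGroup.of_card (n := 1) (pow_one _).symm, ?_⟩
      intro hd
      have h1 := relIndex_sup_eq' hWQn
      rw [sup_comm] at h1
      rw [h1, ← Subgroup.inf_relIndex_right, inf_comm, H28.RelHall.inf_eq_bot_of_coprime hcopQ,
        Subgroup.relIndex_bot_left] at hd
      exact F.p_prime.one_lt.ne' (Nat.eq_one_of_dvd_coprimes hcopQ hd dvd_rfl)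
    obtain ⟨h, hh, hle⟩ := hSyl.exists_conj_ge (Q := zpowers (x : G))
      (IsPGroup.of_card (n := 1) (by rw [Nat.card_zpowers, hxo, pow_one])) (hxE.trans hEN)
    have heq : zpowers (x : G) = cj h W₂ := by
      refine Subgroup.eq_of_le_of_card_ge hle ?_
      rw [card_cj, Nat.card_zpowers, hxo]
    have hh' : h ∈ (Q : Set G) * (W₂ : Set G) := by
      rw [← Subgroup.coe_mul_of_right_le_normalizer_left Q W₂ hWQn]; exact hh
    obtain ⟨y, hy, w, hw, rfl⟩ := Set.mem_mul.mp hh'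
    rw [← cj_cj, cj_eq_self_of_mem (show w ∈ W₂ from hw)] at heq
    refine ⟨y, hy, ?_⟩
    have hzn : zpowers (x : G) ≤ normalizer (W₁ : Set G) := by
      rw [F'.normalizer_W₂]; exact hxE.trans hEN
    have hEeq : W₁ ⊔ zpowers (x : G) = E := by
      refine Subgroup.eq_of_le_of_card_ge (sup_le hWE hxE) ?_
      have hdis : zpowers (x : G) ⊓ W₁ = ⊥ := by
        apply H28.RelHall.inf_eq_bot_of_coprime
        rw [Nat.card_zpowers, hxo]
        exact F.cop_pq
      have h1 := card_sup_mul_card_inf hzn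
      rw [hdis, Subgroup.card_bot, mul_one, Nat.card_zpowers, hxo, sup_comm] at h1
      rw [h1, hcardE, hrp, mul_comm]
    have hEeq' : W₁ ⊔ cj y W₂ = E := by rw [← heq]; exact hEeq
    change H ⊓ (W₁ ⊔ cj y W₂) = ⊥ ∧ H ⊔ (W₁ ⊔ cj y W₂) = L
    rw [hEeq']
    exact ⟨hHE, hsup⟩

end H4.PF1317W
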