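import Mathlib
import Cfsg.Prelude.Def_Characters
import Cfsg.Agent.Lib.H4.Brauer
import Cfsg.Agent.Lib.H4.CharEquiv

/-!
# Brauer's splitting field theorem (H4.SplitField)
-/

set_option autoImplicit false
open Cfsg Representation
open scoped ComplexConjugate

namespace H4.SplitField

open H18.CharBasic H18.CharOrtho H18.CharInd H18.CharQuot

universe u v w x

section field

variable {G : Type u} [Group G] {K : Type v} [Field K]
variable {V : Type w} [AddCommGroup V] [Module K V] {W : Type x} [AddCommGroup W] [Module K W]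

/-- transport of a representation along a linear equivalence -/
noncomputable def transport (ρ : Representation K G V) (e : V ≃ₗ[K] W) :
    Representation K G W where
  toFun g := e.conj (ρ g)
  map_one' := by rw [map_one]; exact e.conj_id
  map_mul' g h := by
    rw [map_mul]; exact e.conj_comp _ _

/-- the transported representation is equivalent to the original one -/
noncomputable def transportEquiv (ρ : Representation K G V) (e : V ≃ₗ[K] W) :
    ρ.Equiv (transport ρ e) :=
  Representation.Equiv.mk e (fun g => by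
    ext v; simp [transport, LinearEquiv.conj_apply])

/-- Irreducibility transfers along equivalences of representations. -/
theorem isIrreducible_of_equiv {ρ : Representation K G V} {σ : Representation K G W}
    (φ : ρ.Equiv σ) (h : ρ.IsIrreducible) : σ.IsIrreducible := by
  have h' := (Representation.irreducible_iff_isSimpleModule_asModule ρ).mp h
  rw [Representation.irreducible_iff_isSimpleModule_asModule]
  have e1 : ρ.asModule ≃ₗ[MonoidAlgebra K G] σ.asModule :=
    LinearEquiv.ofBijective
      (Representation.IntertwiningMap.equivLinearMapAsModule ρ σ φ.toIntertwiningMap)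
      φ.toLinearEquiv.bijective
  exact IsSimpleModule.congr e1.symm

theorem isCompl_toSubmodule {ρ : Representation K G V} {W₁ W₂ : Subrepresentation ρ}
    (h : IsCompl W₁ W₂) : IsCompl W₁.toSubmodule W₂.toSubmodule := by
  refine ⟨?_, ?_⟩
  · rw [disjoint_iff, ← Subrepresentation.toSubmodule_inf, h.inf_eq_bot]; rfl
  · rw [codisjoint_iff, ← Subrepresentation.toSubmodule_sup, h.sup_eq_top]; rfl

/-- complementary subrepresentations decompose the representation as a product -/
noncomputable def prodEquiv {ρ : Representation K G V} {W₁ W₂ : Subrepresentation ρ}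
    (h : IsCompl W₁ W₂) : (W₁.toRepresentation.prod W₂.toRepresentation).Equiv ρ :=
  Representation.Equiv.mk (Submodule.prodEquivOfIsCompl _ _ (isCompl_toSubmodule h)) (fun g => by
    ext x
    · simp [Subrepresentation.toRepresentation]
    · simp [Subrepresentation.toRepresentation])

theorem character_prod [FiniteDimensional K V] [FiniteDimensional K W]
    (ρ : Representation K G V) (σ : Representation K G W) :
    (ρ.prod σ).character = ρ.character + σ.character := by
  ext g
  simp only [Representation.character, Pi.add_apply]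
  rw [← LinearMap.trace_prodMap' (ρ g) (σ g)]
  rfl

theorem character_of_isCompl [FiniteDimensional K V] {ρ : Representation K G V}
    {W₁ W₂ : Subrepresentation ρ} (h : IsCompl W₁ W₂) :
    ρ.character = W₁.toRepresentation.character + W₂.toRepresentation.character := by
  rw [← Representation.char_iso (prodEquiv h), character_prod]

/-- Induction principle. -/
theorem rep_induction [Finite G] [NeZero (Nat.card G : K)]
    {motive : ∀ (V : Type w) [AddCommGroup V] [Module K V] (_ : Representation K G V), Prop}
    (h0 : ∀ (V : Type w) [AddCommGroup V] [Module K V] (ρ : Representation K G V),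
      Subsingleton V → motive V ρ)
    (hirr : ∀ (V : Type w) [AddCommGroup V] [Module K V] [FiniteDimensional K V]
      (ρ : Representation K G V), ρ.IsIrreducible → motive V ρ)
    (hadd : ∀ (V : Type w) [AddCommGroup V] [Module K V] [FiniteDimensional K V]
      (ρ : Representation K G V) (W₁ W₂ : Subrepresentation ρ), IsCompl W₁ W₂ →
      motive W₁.toSubmodule W₁.toRepresentation → motive W₂.toSubmodule W₂.toRepresentation →
      motive V ρ)
    (V : Type w) [AddCommGroup V] [Module K V] [FiniteDimensional K V]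
    (ρ : Representation K G V) : motive V ρ := by
  suffices H : ∀ (n : ℕ) (V : Type w) [AddCommGroup V] [Module K V] [FiniteDimensional K V]
      (ρ : Representation K G V), Module.finrank K V = n → motive V ρ from H _ V ρ rfl
  intro n
  induction n using Nat.strong_induction_on with
  | _ n ih =>
    intro V _ _ _ ρ hn
    by_cases hs : Subsingleton V
    · exact h0 V ρ hs
    by_cases hρ : ρ.IsIrreducible
    · exact hirr V ρ hρ
    have hnt : Nontrivial V := not_subsingleton_iff_nontrivial.mp hs
    have hbt : (⊥ : Subrepresentation ρ) ≠ ⊤ := by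
      intro h
      have h1 := congrArg Subrepresentation.toSubmodule h
      exact (bot_ne_top (α := Submodule K V)) h1
    have hex : ∃ W : Subrepresentation ρ, W ≠ ⊥ ∧ W ≠ ⊤ := by
      by_contra hcon
      push Not at hcon
      apply hρ
      exact { exists_pair_ne := ⟨⊥, ⊤, hbt⟩,
              eq_bot_or_eq_top := fun a => by
                by_cases ha : a = ⊥
                · exact Or.inl ha
                · exact Or.inr (hcon a ha) }
    obtain ⟨W₁, hb, ht⟩ := hex
    obtain ⟨W₂, hc⟩ := exists_isCompl W₁
    have hc' := isCompl_toSubmodule hc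
    have hne1 : W₁.toSubmodule ≠ ⊤ := fun h => ht (Subrepresentation.toSubmodule_injective h)
    have hne2 : W₂.toSubmodule ≠ ⊤ := by
      intro h
      apply hb
      apply Subrepresentation.toSubmodule_injective
      have := hc'.inf_eq_bot
      rw [h, inf_top_eq] at this
      exact this
    refine hadd V ρ W₁ W₂ hc (ih _ ?_ _ _ rfl) (ih _ ?_ _ _ rfl)
    · rw [← hn]; exact Submodule.finrank_lt hne1
    · rw [← hn]; exact Submodule.finrank_lt hne2

end field

section KChar

variable (K : Type v) [Field K] [Algebra K ℂ] {G : Type u} [Group G]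

/-- (complex-valued) characters of representations over `K` -/
def KChar (χ : G → ℂ) : Prop :=
  ∃ (n : ℕ) (σ : Representation K G (Fin n → K)), (fun g => algebraMap K ℂ (σ.character g)) = χ

/-- (complex-valued) characters of irreducible representations over `K` -/
def KIrr (χ : G → ℂ) : Prop :=
  ∃ (n : ℕ) (σ : Representation K G (Fin n → K)), σ.IsIrreducible ∧
    (fun g => algebraMap K ℂ (σ.character g)) = χ

variable {K}

theorem KIrr.kchar {χ : G → ℂ} (h : KIrr K χ) : KChar K χ := by
  obtain ⟨n, σ, _, h⟩ := h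
  exact ⟨n, σ, h⟩

theorem kchar_of_rep {V : Type w} [AddCommGroup V] [Module K V] [FiniteDimensional K V]
    (ρ : Representation K G V) : KChar K (fun g => algebraMap K ℂ (ρ.character g)) := by
  refine ⟨_, transport ρ (Module.finBasis K V).equivFun, ?_⟩
  rw [← Representation.char_iso (transportEquiv ρ (Module.finBasis K V).equivFun)]

theorem kirr_of_rep {V : Type w} [AddCommGroup V] [Module K V] [FiniteDimensional K V]
    (ρ : Representation K G V) (hρ : ρ.IsIrreducible) :
    KIrr K (fun g => algebraMap K ℂ (ρ.character g)) := by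
  refine ⟨_, transport ρ (Module.finBasis K V).equivFun, ?_, ?_⟩
  · exact isIrreducible_of_equiv (transportEquiv ρ (Module.finBasis K V).equivFun) hρ
  · rw [← Representation.char_iso (transportEquiv ρ (Module.finBasis K V).equivFun)]

theorem kchar_zero : KChar K (0 : G → ℂ) := by
  refine ⟨0, Representation.trivial K G (Fin 0 → K), ?_⟩
  ext g
  have : (Representation.trivial K G (Fin 0 → K)) g = 0 := Subsingleton.elim _ _
  simp [Representation.character, this]

theorem kchar_add {χ ψ : G → ℂ} (hχ : KChar K χ) (hψ : KChar K ψ) : KChar K (χ + ψ) := by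
  obtain ⟨n, σ, rfl⟩ := hχ
  obtain ⟨m, τ, rfl⟩ := hψ
  have := kchar_of_rep (σ.prod τ)
  convert this using 1
  ext g
  rw [character_prod]; simp

/-- complexification -/
noncomputable def cplx {n : ℕ} (σ : Representation K G (Fin n → K)) :
    Representation ℂ G (Fin n → ℂ) where
  toFun g := Matrix.toLin' ((LinearMap.toMatrix' (σ g)).map (algebraMap K ℂ))
  map_one' := by
    rw [map_one]
    have h1 : LinearMap.toMatrix' (1 : (Fin n → K) →ₗ[K] (Fin n → K)) = 1 :=
      LinearMap.toMatrix'_one
    rw [h1, Matrix.map_one _ (map_zero _) (map_one _), Matrix.toLin'_one]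
    rfl
  map_mul' g h := by
    rw [map_mul, LinearMap.toMatrix'_mul, Matrix.map_mul, Matrix.toLin'_mul]
    rfl

theorem cplx_character {n : ℕ} (σ : Representation K G (Fin n → K)) (g : G) :
    (cplx σ).character g = algebraMap K ℂ (σ.character g) := by
  simp only [Representation.character, cplx, MonoidHom.coe_mk, OneHom.coe_mk]
  rw [Matrix.trace_toLin'_eq, LinearMap.trace_eq_matrix_trace K (Pi.basisFun K (Fin n)),
    LinearMap.toMatrix_eq_toMatrix']
  exact (AddMonoidHom.map_trace (algebraMap K ℂ).toAddMonoidHom _).symm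

theorem isCharacter_of_kchar {χ : G → ℂ} (h : KChar K χ) : IsCharacter G χ := by
  obtain ⟨n, σ, rfl⟩ := h
  exact ⟨n, cplx σ, funext fun g => cplx_character σ g⟩

theorem neZero_card [Finite G] : NeZero (Nat.card G : K) := by
  refine ⟨fun h => ?_⟩
  have h1 := congrArg (algebraMap K ℂ) h
  rw [map_natCast, map_zero] at h1
  exact (by exact_mod_cast (Nat.card_pos (α := G)).ne' : (Nat.card G : ℂ) ≠ 0) h1

theorem mem_closure_kirr [Finite G] {χ : G → ℂ} (h : KChar K χ) :
    χ ∈ AddSubmonoid.closure {ψ : G → ℂ | KIrr K ψ} := by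
  obtain ⟨n, σ, rfl⟩ := h
  have := neZero_card (G := G) (K := K)
  refine rep_induction (G := G) (motive := fun V _ _ ρ =>
    (fun g => algebraMap K ℂ (ρ.character g)) ∈ AddSubmonoid.closure {χ : G → ℂ | KIrr K χ})
    ?_ ?_ ?_ (Fin n → K) σ
  · intro V _ _ ρ hV
    have : (fun g => algebraMap K ℂ (ρ.character g)) = 0 := by
      ext g
      have : ρ g = 0 := Subsingleton.elim _ _
      simp [Representation.character, this]
    rw [this]; exact zero_mem _
  · intro V _ _ _ ρ hρ
    exact AddSubmonoid.subset_closure (kirr_of_rep ρ hρ)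
  · intro V _ _ _ ρ W₁ W₂ hc h1 h2
    have h3 := add_mem h1 h2
    convert h3 using 1
    ext g
    rw [character_of_isCompl hc]
    simp

theorem kchar_of_mem_closure {χ : G → ℂ}
    (h : χ ∈ AddSubmonoid.closure {ψ : G → ℂ | KChar K ψ}) : KChar K χ := by
  induction h using AddSubmonoid.closure_induction with
  | mem x hx => exact hx
  | zero => exact kchar_zero
  | add x y _ _ hx hy => exact kchar_add hx hy

/-- the inner product of characters over `K` -/
theorem classInner_kchar [Fintype G] {V : Type w} [AddCommGroup V] [Module K V]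
    [FiniteDimensional K V] {W : Type x} [AddCommGroup W] [Module K W] [FiniteDimensional K W]
    (ρ : Representation K G V) (σ : Representation K G W) :
    classInner (fun g => algebraMap K ℂ (σ.character g)) (fun g => algebraMap K ℂ (ρ.character g)) =
      Module.finrank K (IntertwiningMap ρ σ) := by
  have hne := neZero_card (G := G) (K := K)
  have : Invertible (Nat.card G : K) := invertibleOfNonzero hne.out
  have h1 := Representation.card_inv_mul_sum_char_mul_char_eq_finrank ρ σ
  have h2 := congrArg (algebraMap K ℂ) h1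
  rw [map_natCast] at h2
  rw [← h2, map_mul, map_inv₀, map_natCast, map_sum, classInner]
  congr 1
  refine Finset.sum_congr rfl fun g _ => ?_
  rw [map_mul]
  congr 1
  have h3 := isCharacter_of_kchar (kchar_of_rep ρ)
  exact (H4.CharBasic.IsCharacter.inv h3 g).symm

/-- distinct `K`-irreducible characters are orthogonal -/
theorem classInner_kirr_ne [Fintype G] {χ ψ : G → ℂ} (hχ : KIrr K χ) (hψ : KIrr K ψ)
    (hne : χ ≠ ψ) : classInner χ ψ = 0 := by
  obtain ⟨n, σ, hσ, rfl⟩ := hχ
  obtain ⟨m, τ, hτ, rfl⟩ := hψ
  rw [classInner_kchar]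
  have hempty : IsEmpty (τ.Equiv σ) := by
    refine ⟨fun e => hne ?_⟩
    rw [Representation.char_iso e]
  have : Subsingleton (IntertwiningMap τ σ) := inferInstance
  rw [Module.finrank_zero_of_subsingleton, Nat.cast_zero]

/-- An irreducible character which is a `ℤ`-combination of characters of `K`-representations is
the character of a `K`-representation. -/
theorem kchar_of_mem [Fintype G] {χ : G → ℂ} (hχ : IsIrrCharacter G χ)
    (h : χ ∈ AddSubgroup.closure {ψ : G → ℂ | KChar K ψ}) : KChar K χ := by
  classical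
  have hle : AddSubgroup.closure {ψ : G → ℂ | KChar K ψ} ≤
      AddSubgroup.closure {ψ : G → ℂ | KIrr K ψ} := by
    rw [AddSubgroup.closure_le]
    intro ψ hψ
    have h1 := mem_closure_kirr hψ
    have h2 : AddSubmonoid.closure {ψ : G → ℂ | KIrr K ψ} ≤
        (AddSubgroup.closure {ψ : G → ℂ | KIrr K ψ}).toAddSubmonoid := by
      rw [AddSubmonoid.closure_le]
      exact AddSubgroup.subset_closure
    exact h2 h1
  have hmem := hle h
  -- some `K`-irreducible character is not orthogonal to `χ`
  obtain ⟨φ, hφ, hφχ⟩ : ∃ φ : G → ℂ, KIrr K φ ∧ classInner χ φ ≠ 0 := by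
    by_contra hcon
    push Not at hcon
    have key : ∀ f ∈ AddSubgroup.closure {ψ : G → ℂ | KIrr K ψ}, classInner χ f = 0 := by
      intro f hf
      induction hf using AddSubgroup.closure_induction with
      | mem x hx => exact hcon x hx
      | zero => exact H4.CharOrth.classInner_zero_right _
      | add x y _ _ hx hy => rw [H4.CharOrth.classInner_add_right, hx, hy, add_zero]
      | neg x _ hx => rw [H4.CharOrth.classInner_neg_right, hx, neg_zero]
    have h1 := key χ hmem
    rw [H4.CharOrth.classInner_self_irr hχ] at h1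
    exact one_ne_zero h1
  have hφc := isCharacter_of_kchar hφ.kchar
  -- `d = [φ, φ]`
  obtain ⟨d, hd⟩ := H4.CharOrth.exists_nat_classInner hφc hφc
  obtain ⟨a, ha⟩ := H4.CharOrth.exists_nat_classInner (H4.CharBasic.IsIrrCharacter.isCharacter hχ) hφc
  have ha0 : a ≠ 0 := by
    intro h0
    rw [h0, Nat.cast_zero] at ha
    exact hφχ ha
  have hda : (d : ℤ) ∣ a := by
    have key : ∀ f ∈ AddSubgroup.closure {ψ : G → ℂ | KIrr K ψ}, ∃ b : ℤ,
        classInner f φ = d * b := by
      intro f hf
      induction hf using AddSubgroup.closure_induction with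
      | mem x hx =>
        by_cases hx' : x = φ
        · exact ⟨1, by rw [hx', hd]; simp⟩
        · exact ⟨0, by rw [classInner_kirr_ne hx hφ hx']; simp⟩
      | zero => exact ⟨0, by rw [H4.CharOrth.classInner_zero_left]; simp⟩
      | add x y _ _ hx hy =>
        obtain ⟨b, hb⟩ := hx
        obtain ⟨c, hc⟩ := hy
        exact ⟨b + c, by rw [H4.CharOrth.classInner_add_left, hb, hc]; push_cast; ring⟩
      | neg x _ hx =>
        obtain ⟨b, hb⟩ := hx
        exact ⟨-b, by rw [H4.CharOrth.classInner_neg_left, hb]; push_cast; ring⟩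
    obtain ⟨b, hb⟩ := key χ hmem
    rw [ha] at hb
    exact ⟨b, by exact_mod_cast hb⟩
  have hda' : d ∣ a := by exact_mod_cast hda
  have hdle : d ≤ a := Nat.le_of_dvd (Nat.pos_of_ne_zero ha0) hda'
  -- `a ^ 2 ≤ d`
  have := Fintype.ofFinite (IrrCharacter G)
  have hcf := H4.CharBasic.IsCharacter.isClassFunction hφc
  choose c hc using fun ψ : IrrCharacter G => H4.CharOrth.exists_nat_classInner hφc
    (H4.CharBasic.IsIrrCharacter.isCharacter ψ.2)
  have hsum : (d : ℂ) = ∑ ψ : IrrCharacter G, (c ψ : ℂ) ^ 2 := by
    rw [← hd, H4.CharOrth.classInner_eq_sum hcf]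
    refine Finset.sum_congr rfl fun ψ _ => ?_
    rw [hc, Complex.conj_natCast]; ring
  have hsum' : d = ∑ ψ : IrrCharacter G, (c ψ) ^ 2 := by exact_mod_cast hsum
  have hcχ : c ⟨χ, hχ⟩ = a := by
    have h1 := hc ⟨χ, hχ⟩
    have h2 : classInner φ χ = a := by
      rw [← H4.CharOrth.classInner_conj_symm, ha, Complex.conj_natCast]
    rw [h2] at h1
    exact_mod_cast h1.symm
  have hle1 : a ^ 2 ≤ d := by
    rw [hsum', ← hcχ]
    exact Finset.single_le_sum (f := fun ψ => c ψ ^ 2) (fun ψ _ => Nat.zero_le _)
      (Finset.mem_univ (⟨χ, hχ⟩ : IrrCharacter G))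
  have ha1 : a = 1 := by nlinarith [Nat.pos_of_ne_zero ha0]
  have hd1 : d = 1 := by
    subst ha1
    have : 1 ≤ d := by simpa using hle1
    omega
  -- `φ = χ`
  have hrest : ∀ ψ : IrrCharacter G, ψ ≠ ⟨χ, hχ⟩ → c ψ = 0 := by
    intro ψ hψ
    by_contra h0
    have h1 : c ψ ^ 2 + c ⟨χ, hχ⟩ ^ 2 ≤ d := by
      rw [hsum']
      have := Finset.sum_le_sum_of_subset (f := fun ψ : IrrCharacter G => c ψ ^ 2)
        (Finset.subset_univ {ψ, ⟨χ, hχ⟩})
      rwa [Finset.sum_pair hψ] at this
    rw [hcχ, ha1, hd1] at h1
    have h2 : 0 < c ψ ^ 2 := by positivity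
    omega
  have hφχ' : φ = χ := by
    rw [H4.CharOrth.classFunction_eq_sum hcf, Finset.sum_eq_single ⟨χ, hχ⟩]
    · rw [hc, hcχ, ha1]; simp
    · intro ψ _ hψ
      rw [hc, hrest ψ hψ]; simp
    · intro h; exact absurd (Finset.mem_univ _) h
  rw [← hφχ']; exact hφ.kchar

end KChar

section Ind

variable {K : Type v} [Field K] {G : Type u} [Group G]

/-- right translation on functions -/
def rtrans (K : Type v) [Field K] (G : Type u) [Group G] : Representation K G (G → K) where
  toFun g :=
    { toFun := fun f x => f (x * g)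
      map_add' := fun _ _ => rfl
      map_smul' := fun _ _ => rfl }
  map_one' := by ext f x; simp
  map_mul' a b := by
    refine LinearMap.ext fun f => funext fun x => ?_
    show f (x * (a * b)) = f (x * a * b)
    rw [mul_assoc]

theorem rtrans_apply (g : G) (f : G → K) (x : G) : rtrans K G g f x = f (x * g) := rfl

/-- the functions which are `μ`-semi-invariant under `H` -/
def semi (H : Subgroup G) (μ : H →* K) : Subrepresentation (rtrans K G) where
  toSubmodule :=
    { carrier := {f | ∀ (h : H) (x : G), f (h * x) = μ h * f x}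
      add_mem' := by
        intro a b ha hb h x
        show a (h * x) + b (h * x) = μ h * (a x + b x)
        rw [ha, hb, mul_add]
      zero_mem' := by intro h x; show (0 : K) = μ h * 0; rw [mul_zero]
      smul_mem' := by
        intro c a ha h x
        show c * a (h * x) = μ h * (c * a x)
        rw [ha]; ring }
  apply_mem_toSubmodule := by
    intro g f hf h x
    show f (h * x * g) = μ h * f (x * g)
    rw [mul_assoc]; exact hf h _

theorem mem_semi (H : Subgroup G) (μ : H →* K) (f : G → K) :
    f ∈ (semi H μ).toSubmodule ↔ ∀ (h : H) (x : G), f (h * x) = μ h * f x := Iff.rfl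

/-- the projection to `semi` -/
noncomputable def proj (H : Subgroup G) [Fintype H] (μ : H →* K) : (G → K) →ₗ[K] (G → K) where
  toFun f x := (Nat.card H : K)⁻¹ * ∑ h : H, μ h⁻¹ * f (h * x)
  map_add' a b := by
    ext x
    simp only [Pi.add_apply, mul_add, Finset.sum_add_distrib]
  map_smul' c a := by
    ext x
    simp only [Pi.smul_apply, smul_eq_mul, RingHom.id_apply]
    rw [mul_left_comm c, Finset.mul_sum Finset.univ _ c]
    congr 1
    refine Finset.sum_congr rfl fun h _ => ?_
    ring

theorem proj_apply (H : Subgroup G) [Fintype H] (μ : H →* K) (f : G → K) (x : G) :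
    proj H μ f x = (Nat.card H : K)⁻¹ * ∑ h : H, μ h⁻¹ * f (h * x) := rfl

theorem mu_mul_inv (H : Subgroup G) (μ : H →* K) (h : H) : μ h⁻¹ * μ h = 1 := by
  rw [← map_mul, inv_mul_cancel, map_one]

theorem proj_mem (H : Subgroup G) [Fintype H] (μ : H →* K) (f : G → K) :
    proj H μ f ∈ (semi H μ).toSubmodule := by
  rw [mem_semi]
  intro h x
  rw [proj_apply, proj_apply, mul_left_comm]
  congr 1
  rw [Finset.mul_sum, ← Equiv.sum_comp (Equiv.mulRight h) (fun k : H => μ h * (μ k⁻¹ * f (k * x)))]
  refine Finset.sum_congr rfl fun k _ => ?_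
  show μ k⁻¹ * f (k * (h * x)) = μ h * (μ (k * h)⁻¹ * f (((k * h : H) : G) * x))
  rw [mul_inv_rev, map_mul, Subgroup.coe_mul, mul_assoc (k : G), ← mul_assoc (μ h),
    ← mul_assoc (μ h), ← map_mul, mul_inv_cancel, map_one, one_mul]

theorem proj_eq (H : Subgroup G) [Fintype H] [NeZero (Nat.card H : K)] (μ : H →* K) {f : G → K}
    (hf : f ∈ (semi H μ).toSubmodule) : proj H μ f = f := by
  ext x
  rw [mem_semi] at hf
  rw [proj_apply]
  have h1 : ∀ h : H, μ h⁻¹ * f (h * x) = f x := by
    intro h
    rw [hf, ← mul_assoc, mu_mul_inv, one_mul]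
  rw [Finset.sum_congr rfl (fun h _ => h1 h), Finset.sum_const, Finset.card_univ,
    ← Nat.card_eq_fintype_card, nsmul_eq_mul, ← mul_assoc,
    inv_mul_cancel₀ (NeZero.ne (Nat.card H : K)), one_mul]

theorem trace_semi [Fintype G] (H : Subgroup G) [Fintype H] [NeZero (Nat.card H : K)] (μ : H →* K)
    (g : G) [DecidablePred (· ∈ H)] : (semi H μ).toRepresentation.character g =
      (Nat.card H : K)⁻¹ * ∑ x : G, if hx : x⁻¹ * g * x ∈ H then μ ⟨_, hx⟩ else 0 := by
  classical
  have hmem : ∀ f, (rtrans K G g ∘ₗ proj H μ) f ∈ (semi H μ).toSubmodule := fun f =>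
    (semi H μ).apply_mem_toSubmodule g (proj_mem H μ f)
  have h1 := LinearMap.trace_restrict_eq_of_forall_mem (semi H μ).toSubmodule
    (rtrans K G g ∘ₗ proj H μ) hmem
  have h2 : (semi H μ).toRepresentation.character g =
      LinearMap.trace K _ ((rtrans K G g ∘ₗ proj H μ).restrict (fun x _ => hmem x)) := by
    rw [Representation.character]
    congr 1
    ext ⟨f, hf⟩ x
    show rtrans K G g f x = rtrans K G g (proj H μ f) x
    rw [proj_eq H μ hf]
  rw [h2, h1, LinearMap.trace_eq_matrix_trace K (Pi.basisFun K G), LinearMap.toMatrix_eq_toMatrix',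
    Matrix.trace, Finset.mul_sum, ← Equiv.sum_comp (Equiv.inv G)]
  refine Finset.sum_congr rfl fun x _ => ?_
  rw [Matrix.diag_apply, LinearMap.toMatrix'_apply]
  show rtrans K G g (proj H μ _) x⁻¹ = _
  rw [rtrans_apply, proj_apply]
  congr 1
  by_cases hx : x⁻¹ * g * x ∈ H
  · rw [dif_pos hx, Finset.sum_eq_single (⟨_, hx⟩⁻¹ : H)]
    · rw [inv_inv]
      have h3 : (((⟨x⁻¹ * g * x, hx⟩⁻¹ : H) : G)) * (x⁻¹ * g) = x⁻¹ := by
        show (x⁻¹ * g * x)⁻¹ * (x⁻¹ * g) = x⁻¹
        group
      rw [h3]; simp
    · intro h _ hne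
      have h3 : (h : G) * (x⁻¹ * g) ≠ x⁻¹ := by
        intro h4
        apply hne
        apply Subtype.ext
        show (h : G) = (x⁻¹ * g * x)⁻¹
        rw [eq_mul_inv_of_mul_eq h4]; group
      rw [Equiv.inv_apply, Pi.single_eq_of_ne h3, mul_zero]
    · intro h; exact absurd (Finset.mem_univ _) h
  · rw [dif_neg hx]
    apply Finset.sum_eq_zero
    intro h _
    have h3 : (h : G) * (x⁻¹ * g) ≠ x⁻¹ := by
      intro h4
      apply hx
      have h5 : x⁻¹ * g * x = (h : G)⁻¹ := by
        rw [← mul_left_cancel_iff (a := (h : G)), mul_inv_cancel, ← mul_assoc, h4, inv_mul_cancel]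
      rw [h5]; exact H.inv_mem h.2
    rw [Equiv.inv_apply, Pi.single_eq_of_ne h3, mul_zero]

end Ind

section Final

variable {G : Type u} [Group G]

theorem kchar_ind [Fintype G] {K : Type v} [Field K] [Algebra K ℂ] (H : Subgroup G)
    (lam : H →* ℂˣ) (hlam : ∀ h, ∃ a : K, algebraMap K ℂ a = (lam h : ℂ)) :
    KChar K (indFun H (fun h => (lam h : ℂ))) := by
  classical
  choose m hm using hlam
  have hinj : Function.Injective (algebraMap K ℂ) := (algebraMap K ℂ).injective
  let μ : H →* K :=
    { toFun := m
      map_one' := by apply hinj; rw [hm, map_one, map_one]; rfl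
      map_mul' := by
        intro a b
        apply hinj
        rw [hm, map_mul, map_mul, hm, hm]; rfl }
  have hμ : ∀ h, algebraMap K ℂ (μ h) = (lam h : ℂ) := hm
  have := neZero_card (G := H) (K := K)
  have h1 := kchar_of_rep (semi H μ).toRepresentation
  convert h1 using 1
  ext g
  rw [trace_semi, map_mul, map_inv₀, map_natCast, map_sum, indFun_apply]
  congr 1
  refine Finset.sum_congr rfl fun x _ => ?_
  by_cases hx : x⁻¹ * g * x ∈ H
  · rw [dif_pos hx, ext_mem _ _ hx, hμ]
  · rw [dif_neg hx, ext_notMem _ _ hx, map_zero]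

/-- Brauer's splitting field theorem, for characters -/
theorem kchar_of_isCharacter [Finite G] {K : Type v} [Field K] [Algebra K ℂ]
    (hK : ∀ z : ℂ, z ^ Monoid.exponent G = 1 → ∃ a : K, algebraMap K ℂ a = z) {χ : G → ℂ}
    (hχ : IsCharacter G χ) : KChar K χ := by
  classical
  have := Fintype.ofFinite G
  have hirr : ∀ ψ : G → ℂ, IsIrrCharacter G ψ → KChar K ψ := by
    intro ψ hψ
    apply kchar_of_mem hψ
    have h1 := H4.Brauer.brauer_induction (isGen_of_isIrr hψ)
    refine AddSubgroup.closure_mono ?_ h1
    rintro f ⟨H, lam, -, rfl⟩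
    refine kchar_ind H lam fun h => hK _ ?_
    rw [← Units.val_pow_eq_pow_val, ← map_pow]
    have h2 : h ^ Monoid.exponent G = 1 := by
      apply Subtype.ext
      exact Monoid.pow_exponent_eq_one (h : G)
    rw [h2, map_one]; rfl
  have h1 := (H4.CharOrth.isCharacter_iff_mem_closure χ).mp hχ
  exact kchar_of_mem_closure (AddSubmonoid.closure_mono (fun ψ hψ => hirr ψ hψ) h1)

/-- Brauer's splitting field theorem -/
theorem split_field [Finite G] (n : ℕ) (ρ : Representation ℂ G (Fin n → ℂ)) :
    ∃ σ : Representation ℂ G (Fin n → ℂ), Nonempty (ρ.Equiv σ) ∧ ∀ g : G, ∀ i j : Fin n,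
      LinearMap.toMatrix' (σ g) i j ∈ Algebra.adjoin ℚ
        ({Complex.exp (2 * Real.pi * Complex.I / (Monoid.exponent G : ℂ))} : Set ℂ) := by
  have hexp : Monoid.exponent G ≠ 0 := Monoid.exponent_ne_zero_of_finite
  set m := Monoid.exponent G with hm
  set ζ : ℂ := Complex.exp (2 * Real.pi * Complex.I / (m : ℂ)) with hζdef
  have hζ : IsPrimitiveRoot ζ m := Complex.isPrimitiveRoot_exp m hexp
  have hint : IsIntegral ℚ ζ := (hζ.isIntegral (Nat.pos_of_ne_zero hexp)).tower_top
  let K : IntermediateField ℚ ℂ := IntermediateField.adjoin ℚ {ζ}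
  have hKeq : K.toSubalgebra = Algebra.adjoin ℚ {ζ} :=
    IntermediateField.adjoin_simple_toSubalgebra_of_isAlgebraic hint.isAlgebraic
  have hK : ∀ z : ℂ, z ^ Monoid.exponent G = 1 → ∃ a : K, algebraMap K ℂ a = z := by
    intro z hz
    have : NeZero m := ⟨hexp⟩
    obtain ⟨i, -, hi⟩ := hζ.eq_pow_of_pow_eq_one hz
    refine ⟨⟨z, ?_⟩, rfl⟩
    rw [← hi]
    exact pow_mem (IntermediateField.mem_adjoin_simple_self ℚ ζ) i
  obtain ⟨n', σ, hσ⟩ := kchar_of_isCharacter (K := K) hK ⟨n, ρ, rfl⟩
  have hn : n' = n := by
    have h1 := congrFun hσ 1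
    simp only [Representation.char_one, Module.finrank_fin_fun, map_natCast] at h1
    exact_mod_cast h1
  subst hn
  refine ⟨cplx σ, ?_, ?_⟩
  · apply H4.CharEquiv.equiv_of_character_eq
    rw [← hσ]
    ext g
    exact (cplx_character σ g).symm
  · intro g i j
    have h1 : LinearMap.toMatrix' (cplx σ g) i j =
        algebraMap K ℂ (LinearMap.toMatrix' (σ g) i j) := by
      show LinearMap.toMatrix' (Matrix.toLin' ((LinearMap.toMatrix' (σ g)).map (algebraMap K ℂ))) i j = _
      rw [LinearMap.toMatrix'_toLin', Matrix.map_apply]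
    rw [h1, ← hKeq]
    exact (LinearMap.toMatrix' (σ g) i j).2

end Final

end H4.SplitField
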